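import Cfsg.Agent.Lib.Block.SecondMain
import Cfsg.Agent.Lib.Block.Principal
import Cfsg.Agent.Lib.Block.QuotientBlocks
import Cfsg.Agent.Lib.Block.PrincipalColumn
import Cfsg.Agent.Lib.Char.RealBlock
import Cfsg.Agent.Lib.Grp.Cores
import Cfsg.Prelude.Def_CaseTheorems

/-!
A constant difference `χ(1) - χ(u)` on the non-principal characters of the principal `2`-block:
one class of non-trivial `2`-elements, and no quotient of odd order beyond the centralizer of a
Sylow subgroup.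
-/

open scoped ComplexConjugate

set_option autoImplicit false
set_option linter.unusedSectionVars false
set_option linter.style.haveILetI false

namespace Cfsg.Agent.Block.ConstDiff

open Cfsg Cfsg.Agent.Block

universe u

variable {X : Type u} [Group X] [Fintype X] {M : Ideal AlgInt}

/-- The principal block as a finite set. -/
noncomputable def pb (M : Ideal AlgInt) (X : Type u) [Group X] [Fintype X] :
    Finset (IrrCharacter X) := by
  classical
  exact Finset.univ.filter (fun χ => χ ∈ principalBlock M X)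

/-- The non-principal characters of the principal block. -/
noncomputable def nt (M : Ideal AlgInt) (X : Type u) [Group X] [Fintype X] :
    Finset (IrrCharacter X) := by
  classical
  exact (pb M X).erase (trivialIrr X)

theorem mem_pb {χ : IrrCharacter X} : χ ∈ pb M X ↔ χ ∈ principalBlock M X := by
  classical
  simp [pb]

theorem mem_nt {χ : IrrCharacter X} :
    χ ∈ nt M X ↔ χ ∈ principalBlock M X ∧ (χ : X → ℂ) ≠ fun _ => 1 := by
  classical
  rw [nt, Finset.mem_erase, mem_pb, and_comm]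
  refine and_congr_right fun _ => not_congr ⟨fun h => ?_, fun h => Subtype.ext h⟩
  rw [h]; rfl

theorem finsum_pb {A : Type*} [AddCommMonoid A] (f : IrrCharacter X → A) :
    ∑ᶠ χ ∈ principalBlock M X, f χ = ∑ χ ∈ pb M X, f χ := by
  classical
  rw [finsum_mem_block]
  exact Finset.sum_congr (Finset.ext fun χ => by simp [mem_pb]) fun _ _ => rfl

theorem sum_pb {A : Type*} [AddCommMonoid A] (hM : IsPModular 2 M) (f : IrrCharacter X → A) :
    ∑ χ ∈ pb M X, f χ = f (trivialIrr X) + ∑ χ ∈ nt M X, f χ := by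
  classical
  rw [nt, Finset.add_sum_erase]
  exact mem_pb.2 (trivial_mem_principalBlock hM)

theorem triv_apply (g : X) : (trivialIrr X : X → ℂ) g = 1 := rfl

/-- A regular column against a singular one. -/
theorem col_one (hM : IsPModular 2 M) {v : X} (hv : 2 ∣ orderOf v) :
    ∑ χ ∈ pb M X, (χ : X → ℂ) 1 * (χ : X → ℂ) v = 0 := by
  haveI : Fact (Nat.Prime 2) := ⟨Nat.prime_two⟩
  have h := congrArg conj (weak_orth hM (isPBlock_principalBlock (G := X)) (x := (1 : X))
    (y := v) (by simp) hv)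
  rw [finsum_pb, map_sum, map_zero] at h
  rw [← h]
  refine Finset.sum_congr rfl fun χ _ => ?_
  rw [map_mul, Complex.conj_conj, charDeg_spec' χ, map_natCast]

/-- The difference hypothesis. -/
def CD (M : Ideal AlgInt) (u : X) (k : ℂ) : Prop :=
  ∀ χ ∈ nt M X, (χ : X → ℂ) 1 - (χ : X → ℂ) u = k

/-- An element in every kernel of the principal block lies in the core of odd order. -/
theorem mem_oddCore_of_ker (hM : IsPModular 2 M) {u : X}
    (h : ∀ χ ∈ pb M X, (χ : X → ℂ) u = (χ : X → ℂ) 1) : u ∈ Cfsg.oddCore X := by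
  haveI : Fact (Nat.Prime 2) := ⟨Nat.prime_two⟩
  let K : Subgroup X :=
    { carrier := {g | ∀ χ ∈ pb M X, (χ : X → ℂ) g = (χ : X → ℂ) 1}
      one_mem' := fun χ _ => rfl
      mul_mem' := fun {a b} ha hb χ hχ => by
        rw [Cfsg.Agent.Char.char_mul_ker (irr_isChar χ) (ha χ hχ) b]; exact hb χ hχ
      inv_mem' := fun {a} ha χ hχ => by
        rw [irr_apply_inv, ha χ hχ, charDeg_spec' χ, map_natCast] }
  haveI : K.Normal := ⟨fun a ha g χ hχ => by rw [irr_classFun χ a g]; exact ha χ hχ⟩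
  refine Grp.le_pPrimeCore (p := 2) (inferInstance : K.Normal) ?_ (show u ∈ K from h)
  refine (Nat.prime_two.coprime_iff_not_dvd.2 fun hd => ?_).symm
  obtain ⟨⟨v, hvK⟩, hv⟩ := exists_prime_orderOf_dvd_card' (G := K) 2 hd
  rw [Subgroup.orderOf_mk] at hv
  have h0 := col_one hM (v := v) (hv ▸ dvd_rfl)
  have e : ∀ χ ∈ pb M X, (χ : X → ℂ) 1 * (χ : X → ℂ) v =
      (((charDegree (χ : X → ℂ)) ^ 2 : ℕ) : ℂ) := fun χ hχ => by
    rw [hvK χ hχ, charDeg_spec' χ, sq, Nat.cast_mul]
  rw [Finset.sum_congr rfl e, ← Nat.cast_sum, Nat.cast_eq_zero, Finset.sum_eq_zero_iff] at h0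
  have := h0 _ (mem_pb.2 (trivial_mem_principalBlock hM))
  rw [show charDegree (trivialIrr X : X → ℂ) = 1 from charDeg_trivial] at this
  exact one_ne_zero this

theorem ne_zero (hM : IsPModular 2 M) {u : X} {k : ℂ} (h : CD M u k)
    (hu : u ∉ Cfsg.oddCore X) : k ≠ 0 := fun hk => hu (mem_oddCore_of_ker hM fun χ hχ => by
  by_cases h1 : (χ : X → ℂ) = fun _ => 1
  · rw [h1]
  · exact (sub_eq_zero.1 ((h χ (mem_nt.2 ⟨mem_pb.1 hχ, h1⟩)).trans hk)).symm)

/-- Characters are congruent to their degree on `2`-elements. -/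
theorem congr_two_element (hM : IsPModular 2 M) (χ : IrrCharacter X) {g : X}
    (hg : ∃ j : ℕ, orderOf g = 2 ^ j) :
    MemLocalIdeal M ((χ : X → ℂ) g - (χ : X → ℂ) 1) := by
  obtain ⟨j, hj⟩ := hg
  obtain ⟨m, ρ, -, he⟩ := χ.2
  obtain ⟨b, c, -, hcr, hk⟩ := Cfsg.Agent.Char.exists_rep_eigenbasis ρ g
  have h1 := hk 1
  have h0 := hk 0
  simp only [pow_one, pow_zero] at h1 h0
  rw [← he, h1, h0, ← Finset.sum_sub_distrib]
  refine ideal_sum hM fun i _ => ideal_root_sub_one hM (k := j) ?_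
  rw [← hj]; exact hcr i

/-- The parity of the non-principal degrees. -/
theorem ideal_succ_sum (hM : IsPModular 2 M) {v : X} (hv : ∃ j : ℕ, orderOf v = 2 ^ j)
    (hv1 : v ≠ 1) :
    MemLocalIdeal M (1 + ((∑ χ ∈ nt M X, charDegree (χ : X → ℂ) : ℕ) : ℂ)) := by
  obtain ⟨j, hj⟩ := hv
  have h2 : 2 ∣ orderOf v := by
    rw [hj]; refine dvd_pow_self 2 fun h => hv1 (orderOf_eq_one_iff.1 ?_)
    rw [hj, h, pow_zero]
  have h0 := col_one hM h2
  rw [sum_pb hM, triv_apply, triv_apply, one_mul] at h0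
  have hs : MemLocalIdeal M ((1 + ((∑ χ ∈ nt M X, charDegree (χ : X → ℂ) : ℕ) : ℂ)) -
      (1 + ∑ χ ∈ nt M X, (χ : X → ℂ) 1 * (χ : X → ℂ) v)) := by
    rw [add_sub_add_left_eq_sub, Nat.cast_sum, ← Finset.sum_sub_distrib]
    refine ideal_sum hM fun χ _ => ?_
    rw [charDeg_spec' χ]
    set d := charDegree (χ : X → ℂ)
    rw [show (d : ℂ) - d * (χ : X → ℂ) v =
      (((d : ℤ) - d * d : ℤ) : ℂ) - d * ((χ : X → ℂ) v - (d : ℂ)) by push_cast; ring]
    refine ideal_sub hM ((ideal_intCast_iff hM _).2 (even_iff_two_dvd.1 ?_)) (ideal_mul_left hM (ring_natCast hM d) ?_)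
    · rw [Int.even_sub, Int.even_mul]; simp
    · rw [← charDeg_spec' χ]; exact congr_two_element hM χ ⟨j, hj⟩
  rw [h0, sub_zero] at hs
  exact hs

theorem u_section {u t : X} (ht : IsPPart 2 u t) (hM : IsPModular 2 M) {g z : X}
    (hz : IsPPart 2 g z) (hne : ¬ IsConj t z) :
    ∑ χ ∈ pb M X, (χ : X → ℂ) u * conj ((χ : X → ℂ) g) = 0 := by
  haveI : Fact (Nat.Prime 2) := ⟨Nat.prime_two⟩
  have h := section_orth hM ht hz hne (isPBlock_principalBlock (G := X))
  rw [finsum_pb] at h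
  rw [← h]
  exact Finset.sum_congr rfl fun χ _ => by rw [irr_apply_inv]

theorem pPart_two_element {v : X} (hv : ∃ j : ℕ, orderOf v = 2 ^ j) : IsPPart 2 v v :=
  ⟨1, mul_one v, Commute.one_right v, hv, by simp⟩

/-- All non-trivial `2`-elements are conjugate to the `2`-part of `u`. -/
theorem isConj_two_part (hM : IsPModular 2 M) {u t : X} {k : ℂ} (h : CD M u k) (hk : k ≠ 0)
    (ht : IsPPart 2 u t) {v : X} (hv : ∃ j : ℕ, orderOf v = 2 ^ j) (hv1 : v ≠ 1) :
    IsConj t v := by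
  by_contra hne
  obtain ⟨j, hj⟩ := id hv
  have h2 : 2 ∣ orderOf v := by
    rw [hj]; refine dvd_pow_self 2 fun h => hv1 (orderOf_eq_one_iff.1 ?_)
    rw [hj, h, pow_zero]
  have hu := u_section ht hM (pPart_two_element hv) hne
  have hone : ∑ χ ∈ pb M X, (χ : X → ℂ) 1 * conj ((χ : X → ℂ) v) = 0 := by
    have := congrArg conj (col_one hM h2)
    rw [map_sum, map_zero] at this
    rw [← this]
    exact Finset.sum_congr rfl fun χ _ => by rw [map_mul, charDeg_spec' χ, map_natCast]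
  have h0 : k * ∑ χ ∈ nt M X, conj ((χ : X → ℂ) v) = 0 := by
    rw [Finset.mul_sum, Finset.sum_congr rfl (g := fun χ : IrrCharacter X =>
      (χ : X → ℂ) 1 * conj ((χ : X → ℂ) v) - (χ : X → ℂ) u * conj ((χ : X → ℂ) v))
      (fun χ hχ => by rw [← sub_mul, h χ hχ]), Finset.sum_sub_distrib]
    rw [sum_pb hM, triv_apply, triv_apply, one_mul] at hone
    rw [sum_pb hM, triv_apply, triv_apply, one_mul] at hu
    linear_combination hone - hu
  have hsum : ∑ χ ∈ nt M X, (χ : X → ℂ) v = 0 := by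
    have := congrArg conj ((mul_eq_zero.1 h0).resolve_left hk)
    rw [map_sum, map_zero] at this
    simpa using this
  refine ideal_one hM ?_
  have hs : MemLocalIdeal M ((∑ χ ∈ nt M X, (χ : X → ℂ) v) -
      ((∑ χ ∈ nt M X, charDegree (χ : X → ℂ) : ℕ) : ℂ)) := by
    rw [Nat.cast_sum, ← Finset.sum_sub_distrib]
    refine ideal_sum hM fun χ _ => ?_
    rw [← charDeg_spec' χ]; exact congr_two_element hM χ hv
  rw [hsum, zero_sub] at hs
  simpa using ideal_add hM (ideal_succ_sum hM hv hv1) hs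

/-- The `2`-part of `u` is an involution and every involution is conjugate to it. -/
theorem two_part_order (hM : IsPModular 2 M) {u t : X} {k : ℂ} (h : CD M u k)
    (hu : u ∉ Cfsg.oddCore X) (ht : IsPPart 2 u t) :
    orderOf t = 2 ∧ ∀ v : X, (∃ j : ℕ, orderOf v = 2 ^ j) → v ≠ 1 → IsConj t v := by
  haveI : Fact (Nat.Prime 2) := ⟨Nat.prime_two⟩
  have hall := fun v hv hv1 => isConj_two_part hM h (ne_zero hM h hu) ht (v := v) hv hv1
  refine ⟨?_, hall⟩
  have hd : 2 ∣ Nat.card X := by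
    by_contra hd
    refine hu (Grp.le_pPrimeCore (p := 2) (inferInstance : (⊤ : Subgroup X).Normal) ?_ (Subgroup.mem_top u))
    rw [Subgroup.card_top]
    exact (Nat.prime_two.coprime_iff_not_dvd.2 hd).symm
  obtain ⟨v, hv⟩ := exists_prime_orderOf_dvd_card' (G := X) 2 hd
  obtain ⟨c, hc⟩ := isConj_iff.1 (hall v ⟨1, by rw [hv, pow_one]⟩
    (fun e => by rw [e, orderOf_one] at hv; omega))
  rw [← hc, show c * t * c⁻¹ = MulAut.conj c t from rfl, MulEquiv.orderOf_eq] at hv
  exact hv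

/-- The difference is a positive natural number. -/
theorem exists_nat (hM : IsPModular 2 M) {u t : X} {k : ℂ} (h : CD M u k) (hk : k ≠ 0)
    (ht : IsPPart 2 u t) (ht2 : orderOf t = 2) :
    ∃ n : ℕ, 0 < n ∧ k = n ∧ Odd (∑ χ ∈ nt M X, charDegree (χ : X → ℂ)) := by
  haveI : Fact (Nat.Prime 2) := ⟨Nat.prime_two⟩
  set σ : ℕ := ∑ χ ∈ nt M X, charDegree (χ : X → ℂ) with hσ
  set E : ℕ := 1 + ∑ χ ∈ nt M X, charDegree (χ : X → ℂ) ^ 2 with hE
  have ht1 : t ≠ 1 := fun e => by rw [e, orderOf_one] at ht2; omega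
  have hodd : Odd σ := by
    have h1 := ideal_succ_sum hM (v := t) ⟨1, by rw [ht2, pow_one]⟩ ht1
    rw [← Nat.cast_one, ← Nat.cast_add, ideal_natCast_iff hM] at h1
    rw [Nat.odd_iff]
    omega
  have h0 : k * σ = E := by
    have hu := u_section ht hM (g := (1 : X)) (z := 1) ⟨1, mul_one 1, Commute.one_right 1,
      ⟨0, by simp⟩, by simp⟩ (fun e => ht1 (isConj_one_right.1 e.symm))
    rw [sum_pb hM, triv_apply, triv_apply, map_one, one_mul] at hu
    rw [hσ, hE, Nat.cast_sum, Finset.mul_sum, Nat.cast_add, Nat.cast_sum, Nat.cast_one,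
      Finset.sum_congr rfl (g := fun χ : IrrCharacter X => ((charDegree (χ : X → ℂ) ^ 2 : ℕ) : ℂ) -
        (χ : X → ℂ) u * conj ((χ : X → ℂ) 1)) fun χ hχ => by
          rw [← h χ hχ, charDeg_spec' χ, map_natCast, Nat.cast_pow]; ring,
      Finset.sum_sub_distrib]
    linear_combination -hu
  have hσ0 : σ ≠ 0 := fun e => by simp [e] at hodd
  obtain ⟨χ, hχ⟩ : (nt M X).Nonempty := Finset.nonempty_iff_ne_empty.2 fun e => hσ0 (by simp [hσ, e])
  have hint : IsIntegral ℤ k := by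
    rw [← h χ hχ]; exact (irr_isIntegral χ 1).sub (irr_isIntegral χ u)
  obtain ⟨m, hm⟩ : ∃ m : ℤ, k = m := by
    have hq : k = ((E : ℚ) / (σ : ℚ) : ℚ) := by
      push_cast
      rw [eq_div_iff (Nat.cast_ne_zero.2 hσ0), h0]
    rw [hq, show (((E : ℚ) / (σ : ℚ) : ℚ) : ℂ) = algebraMap ℚ ℂ ((E : ℚ) / (σ : ℚ)) from rfl,
      isIntegral_algebraMap_iff (algebraMap ℚ ℂ).injective] at hint
    obtain ⟨m, hm⟩ := IsIntegrallyClosed.isIntegral_iff.1 hint
    exact ⟨m, by rw [hq, ← hm]; simp⟩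
  have hmE : m * σ = E := by rw [hm] at h0; exact_mod_cast h0
  have hE0 : 0 < E := by omega
  have hm0 : 0 < m := by
    by_contra hle
    push Not at hle
    have : m * (σ : ℤ) ≤ 0 := mul_nonpos_of_nonpos_of_nonneg hle (Int.natCast_nonneg σ)
    omega
  exact ⟨m.toNat, by omega, by rw [hm, ← Int.cast_natCast, Int.toNat_of_nonneg hm0.le], hodd⟩

theorem conj_value (hM : IsPModular 2 M) {u : X} {n : ℕ} (h : CD M u (n : ℂ))
    {χ : IrrCharacter X} (hχ : χ ∈ pb M X) : conj ((χ : X → ℂ) u) = (χ : X → ℂ) u := by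
  by_cases h1 : (χ : X → ℂ) = fun _ => 1
  · rw [h1]; simp
  have e : (χ : X → ℂ) u = (χ : X → ℂ) 1 - n := by
    rw [← h χ (mem_nt.2 ⟨mem_pb.1 hχ, h1⟩)]; ring
  rw [e, map_sub, charDeg_spec' χ, map_natCast, map_natCast]

/-- A character of an odd quotient over the centralizer of a Sylow subgroup is in the principal
block. -/
theorem quot_mem (hM : IsPModular 2 M) (S : Sylow 2 X) (T : Subgroup X) [T.Normal]
    (hodd : Odd T.index) (hC : Subgroup.centralizer ((S : Subgroup X) : Set X) ≤ T)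
    (ψ : IrrCharacter (X ⧸ T)) : PrinCol.infl ψ ∈ pb M X := by
  haveI : Fact (Nat.Prime 2) := ⟨Nat.prime_two⟩
  rw [mem_pb]
  refine pblock_mem_of_sameBlock hM isPBlock_principalBlock (trivial_mem_principalBlock hM)
    (sameBlock_of_regular hM fun g _ => ?_)
  set ξ := PrinCol.infl ψ with hξ
  have hd : ¬ 2 ∣ charDegree (ξ : X → ℂ) := by
    have e : charDegree (ξ : X → ℂ) = charDegree (ψ : X ⧸ T → ℂ) := by
      have h1 := charDeg_spec' ξ
      have h2 := charDeg_spec' ψ
      rw [show (ξ : X → ℂ) 1 = (ψ : X ⧸ T → ℂ) 1 from rfl, h2] at h1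
      exact_mod_cast h1.symm
    rw [e]
    intro h2
    cases nonempty_fintype (X ⧸ T)
    have h3 := Cfsg.Agent.Char.IsIrr.degree_dvd_card ψ.2 (charDeg_spec' ψ)
    rw [← Subgroup.index_eq_card] at h3
    exact Nat.not_even_iff_odd.2 hodd (even_iff_two_dvd.2 (h2.trans h3))
  simp only [centralChar, triv_apply, div_one, mul_one]
  by_cases h2 : 2 ∣ (Subgroup.centralizer ({g} : Set X)).index
  · refine ideal_sub hM ((ideal_natCast_iff hM _).2 h2) ?_
    rw [mul_div_assoc, charDeg_spec' ξ, div_eq_inv_mul]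
    exact ideal_mul_right hM ((ideal_natCast_iff hM _).2 h2)
      (ring_mul hM (ring_inv_natCast hM hd) (irr_ring hM ξ g))
  · have hgT : g ∈ T := by
      set Z := Subgroup.centralizer ({g} : Set X)
      obtain ⟨R⟩ : Nonempty (Sylow 2 Z) := inferInstance
      let R' : Sylow 2 X := (R.isPGroup'.map Z.subtype).toSylow (by
        rw [Subgroup.index_map_subtype]
        exact fun h => (Nat.prime_two.dvd_mul.1 h).elim R.not_dvd_index h2)
      obtain ⟨c, hc⟩ := MulAction.exists_smul_eq X R' S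
      have hmem : ∀ x ∈ (S : Subgroup X), c⁻¹ * x * c ∈ Z := by
        intro x hx
        rw [← hc, Sylow.coe_subgroup_smul, Subgroup.mem_pointwise_smul_iff_inv_smul_mem] at hx
        obtain ⟨r, hr, he⟩ := hx
        simp [MulAut.smul_def] at he
        rw [← he]
        exact r.2
      have hcg : c * g * c⁻¹ ∈ T := hC (Subgroup.mem_centralizer_iff.2 fun x hx => by
        have h3 := Subgroup.mem_centralizer_singleton_iff.1 (hmem x hx)
        calc x * (c * g * c⁻¹) = c * (c⁻¹ * x * c * g) * c⁻¹ := by group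
          _ = c * (g * (c⁻¹ * x * c)) * c⁻¹ := by rw [h3]
          _ = c * g * c⁻¹ * x := by group)
      have := (inferInstance : T.Normal).conj_mem _ hcg c⁻¹
      simpa [mul_assoc] using this
    have hv : (ξ : X → ℂ) g = (ξ : X → ℂ) 1 := by
      show (ψ : X ⧸ T → ℂ) g = (ψ : X ⧸ T → ℂ) ((1 : X) : X ⧸ T)
      rw [(QuotientGroup.eq_one_iff g).2 hgT]; rfl
    rw [hv, mul_div_cancel_right₀ _ (irr_one_ne_zero ξ), sub_self]
    exact ideal_zero hM

/-- No normal subgroup of odd index contains the centralizer of a Sylow subgroup. -/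
theorem eq_top_of_centralizer_le (hM : IsPModular 2 M) {u : X} {n : ℕ} (hn : 0 < n)
    (h : CD M u (n : ℂ)) (S : Sylow 2 X) (T : Subgroup X) [T.Normal] (hodd : Odd T.index)
    (hC : Subgroup.centralizer ((S : Subgroup X) : Set X) ≤ T) : T = ⊤ := by
  classical
  cases nonempty_fintype (X ⧸ T)
  have hreal : IsConj (u : X ⧸ T) (u : X ⧸ T)⁻¹ := by
    by_contra hne
    have h0 := Cfsg.Agent.Char.sum_irr_mul_conj (u : X ⧸ T) (u : X ⧸ T)⁻¹
    have h1 := Cfsg.Agent.Char.sum_irr_mul_conj (u : X ⧸ T) (u : X ⧸ T)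
    rw [if_neg hne] at h0
    rw [if_pos (IsConj.refl _)] at h1
    refine (Nat.cast_ne_zero.2 Nat.card_pos.ne') (h1.symm.trans (Eq.trans ?_ h0))
    refine Finset.sum_congr rfl fun ψ _ => ?_
    have := conj_value hM h (quot_mem hM S T hodd hC ψ)
    rw [show (PrinCol.infl ψ : X → ℂ) u = (ψ : X ⧸ T → ℂ) u from rfl] at this
    rw [irr_apply_inv, Complex.conj_conj, this]
  have hu1 : (u : X ⧸ T) = 1 :=
    Cfsg.Agent.Char.RealBlock.eq_one_of_real_of_odd_card (by rwa [← Subgroup.index_eq_card]) hreal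
  have htriv : ∀ ψ : IrrCharacter (X ⧸ T), ψ = trivialIrr (X ⧸ T) := by
    intro ψ
    by_contra hne
    have h1 : (PrinCol.infl ψ : X → ℂ) ≠ fun _ => 1 := fun e => hne (Subtype.ext (funext fun q => by
      obtain ⟨g, rfl⟩ := QuotientGroup.mk'_surjective T q
      exact congrFun e g))
    have h2 := h _ (mem_nt.2 ⟨mem_pb.1 (quot_mem hM S T hodd hC ψ), h1⟩)
    rw [show (PrinCol.infl ψ : X → ℂ) u = (ψ : X ⧸ T → ℂ) u from rfl,
      show (PrinCol.infl ψ : X → ℂ) 1 = (ψ : X ⧸ T → ℂ) 1 from rfl, hu1, sub_self] at h2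
    exact hn.ne' (by exact_mod_cast h2.symm)
  rw [eq_top_iff]
  intro g _
  rw [← QuotientGroup.eq_one_iff]
  by_contra hg
  have h0 := Cfsg.Agent.Char.sum_irr_mul_conj (g : X ⧸ T) 1
  rw [if_neg (fun e => hg (isConj_one_left.1 e)), Finset.sum_congr rfl (g := fun _ => (1 : ℂ))
    (fun ψ _ => by rw [htriv ψ, triv_apply, triv_apply, map_one, one_mul]),
    Finset.sum_const, nsmul_eq_mul, mul_one, Nat.cast_eq_zero, Finset.card_eq_zero] at h0
  exact Finset.notMem_empty (trivialIrr (X ⧸ T)) (h0 ▸ Finset.mem_univ _)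

end Cfsg.Agent.Block.ConstDiff
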