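import Cfsg.Agent.Lib.Block.ConstDiff.Basic
import Cfsg.Agent.Lib.Block.KleinFour
import Cfsg.Agent.Lib.Invol.GW.Consumers.DGroupEven
import Cfsg.Agent.S2300

/-!
In `SL₂(2ⁿ)` every non-principal character exceeds its value at an involution by `2ⁿ`; transfer of
the difference along the core of odd order.
-/

open scoped ComplexConjugate

set_option autoImplicit false
set_option linter.unusedSectionVars false
set_option linter.style.haveILetI false

namespace Cfsg.Agent.Block.ConstDiff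

open Cfsg Cfsg.Agent.Char Subgroup

universe u

variable {F : Type} [Field F] [Fintype F] [DecidableEq F] [CharP F 2]

local notation "SS" => Matrix.SpecialLinearGroup (Fin 2) F

theorem card_irr_sl_two (h4 : 4 ≤ Fintype.card F) [Fintype (IrrCharacter SS)] :
    Fintype.card (IrrCharacter SS) = Fintype.card F + 1 := by
  classical
  obtain ⟨hdeg, hcnt⟩ := Cfsg.Agent.S2300.result (F := F)
  obtain ⟨h1, h2, hp, hm⟩ := hcnt h4
  rw [Nat.card_eq_fintype_card, Fintype.card_subtype] at h1 h2 hp hm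
  set q := Fintype.card F
  have ne : ∀ {a b : ℕ}, a ≠ b → (a : ℂ) ≠ b := fun h => by exact_mod_cast h
  have eq1 : ((q - 1 : ℕ) : ℂ) = (q : ℂ) - 1 := by rw [Nat.cast_sub (by omega), Nat.cast_one]
  let f : IrrCharacter SS → ℕ := fun χ => charDegree (χ : SS → ℂ)
  have hf : ∀ (χ : IrrCharacter SS) (n : ℕ), (χ : SS → ℂ) 1 = n ↔ f χ = n := fun χ n => by
    rw [charDeg_spec' χ, Nat.cast_inj]
  have hmem : ∀ χ ∈ (Finset.univ : Finset (IrrCharacter SS)), f χ ∈ ({1, q - 1, q, q + 1} : Finset ℕ) := by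
    intro χ _
    rcases hdeg _ χ.2 with e | e | e | e
    · simp [(hf χ 1).1 (by rw [e, Nat.cast_one])]
    · simp [(hf χ (q - 1)).1 (by rw [e, eq1])]
    · simp [(hf χ q).1 e]
    · simp [(hf χ (q + 1)).1 (by rw [e]; push_cast; ring)]
  rw [← Finset.card_univ, Finset.card_eq_sum_card_fiberwise hmem, Finset.sum_insert, Finset.sum_insert,
    Finset.sum_pair]
  · have e1 : (Finset.univ.filter fun χ => f χ = 1).card = 1 := by
      refine Eq.trans ?_ h1; congr 1; ext χ; simp [← hf]
    have e2 : (Finset.univ.filter fun χ => f χ = q - 1).card = q / 2 := by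
      refine Eq.trans ?_ hm; congr 1; ext χ; simp [← hf, eq1]
    have e3 : (Finset.univ.filter fun χ => f χ = q).card = 1 := by
      refine Eq.trans ?_ h2; congr 1; ext χ; simp [← hf]
    have e4 : (Finset.univ.filter fun χ => f χ = q + 1).card = (q - 2) / 2 := by
      refine Eq.trans ?_ hp; congr 1; ext χ; simp [← hf]
    rw [e1, e2, e3, e4]
    obtain ⟨r, hr0, hr⟩ := FiniteField.card F 2
    have : 2 ∣ q := by
      show 2 ∣ Fintype.card F
      rw [hr]; exact dvd_pow_self 2 r.ne_zero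
    omega
  all_goals simp <;> omega

/-- Non-principal values of `SL₂(2ⁿ)` at an involution. -/
theorem sl_two_diff (h4 : 4 ≤ Fintype.card F) {v : SS} (hv : orderOf v = 2) (χ : IrrCharacter SS)
    (hχ : (χ : SS → ℂ) ≠ fun _ => 1) :
    (χ : SS → ℂ) 1 - (χ : SS → ℂ) v = (Fintype.card F : ℂ) := by
  classical
  haveI : Fact (Nat.Prime 2) := ⟨Nat.prime_two⟩
  haveI : IsSimpleGroup SS := Invol.GW.SLTwo_isSimple (F := F) (by omega)
  set q := Fintype.card F with hq
  set C := centralizer ({v} : Set SS) with hCdef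
  have hC : Nat.card C = q := Invol.GW.SLTwo_card_centralizer hv
  have hvC : v ∈ C := mem_centralizer_singleton_iff.2 rfl
  have hvv : v * v = 1 := by rw [← pow_two]; exact orderOf_dvd_iff_pow_eq_one.1 hv.dvd
  have hCinv : ∀ c : C, c ≠ 1 → IsConj v (c : SS) := by
    intro c hc
    refine Block.AbTwo.SLTwo.isConj_involutions hv ?_
    have hd := orderOf_dvd_natCard c
    rw [hC] at hd
    have hp : IsPGroup 2 C := by
      obtain ⟨r, -, hr⟩ := FiniteField.card F 2
      exact IsPGroup.of_card (n := r) (hC.trans hr)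
    obtain ⟨R, hR⟩ := hp.exists_le_sylow
    refine orderOf_eq_prime ?_ fun e => hc (Subtype.ext e)
    rw [pow_two]
    exact Block.AbTwo.SLTwo.sylow_sq R _ (hR c.2)
  have hb : ∀ ξ : IrrCharacter SS, ∃ b : ℤ,
      (ξ : SS → ℂ) 1 - (ξ : SS → ℂ) v = (q : ℂ) * b ∧ 0 ≤ b ∧
        ((ξ : SS → ℂ) ≠ (fun _ => 1) → 1 ≤ b) := by
    intro ξ
    obtain ⟨m, hm⟩ := char_involution_int ξ hvv
    obtain ⟨a, ha⟩ := IsGenChar.classInner_int
      (IsGenChar.of_isCharacter (IsChar.comp C.subtype (irr_isChar ξ)))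
      (IsGenChar.of_isCharacter (IsIrr.isCharacter (isIrr_one (G := C))))
    have hsum : (q : ℂ) * a = (ξ : SS → ℂ) 1 + ((q : ℂ) - 1) * m := by
      rw [← ha, classInner, hC, ← mul_assoc, mul_inv_cancel₀ (Nat.cast_ne_zero.2 (by omega)), one_mul,
        ← Finset.add_sum_erase _ _ (Finset.mem_univ (1 : C))]
      simp only [map_one, mul_one, Subgroup.coe_subtype, Subgroup.coe_one]
      rw [Finset.sum_congr rfl (g := fun _ => (m : ℂ)) (fun c hc => by
          rw [← IsClass.eq_of_isConj (irr_classFun ξ) (hCinv c (Finset.ne_of_mem_erase hc)), hm]),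
        Finset.sum_const, Finset.card_erase_of_mem (Finset.mem_univ _), Finset.card_univ,
        ← Nat.card_eq_fintype_card, hC, nsmul_eq_mul, Nat.cast_sub (by omega), Nat.cast_one]
    set d := charDegree (ξ : SS → ℂ) with hd
    have hd1 : (ξ : SS → ℂ) 1 = (d : ℂ) := charDeg_spec' ξ
    have hle : m ≤ (d : ℤ) := by
      have h1 := IsChar.norm_le (irr_isChar ξ) v
      rw [hm, hd1, Complex.norm_intCast, Complex.norm_natCast] at h1
      exact_mod_cast (le_abs_self (m : ℝ)).trans h1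
    have hint : (d : ℤ) - m = (q : ℤ) * (a - m) := by
      rw [hd1] at hsum
      have : ((d : ℤ) : ℂ) - m = ((q : ℤ) : ℂ) * ((a : ℂ) - m) := by push_cast; linear_combination -hsum
      exact_mod_cast this
    have hqpos : (0 : ℤ) < q := by omega
    refine ⟨a - m, ?_, ?_, fun hne => ?_⟩
    · rw [hd1, hm]
      exact_mod_cast hint
    · by_contra hlt
      have : (q : ℤ) * (a - m) < 0 := mul_neg_of_pos_of_neg hqpos (by omega)
      omega
    · by_contra hlt
      have h0 : (q : ℤ) * (a - m) ≤ 0 := mul_nonpos_of_nonneg_of_nonpos hqpos.le (by omega)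
      have hmd : m = (d : ℤ) := by omega
      have hvk : v ∈ charKer (irr_isChar ξ) := (mem_charKer (irr_isChar ξ)).2 (by
        rw [hm, hd1, hmd, Int.cast_natCast])
      rcases (charKer_normal (irr_isChar ξ)).eq_bot_or_eq_top with e | e
      · rw [e, mem_bot] at hvk; rw [hvk, orderOf_one] at hv; omega
      · exact hne (irr_const_eq_one ξ.2 fun g => (mem_charKer _).1 (e ▸ mem_top g))
  choose b hb hb0 hb1 using hb
  have hcard : (Nat.card SS : ℂ) = (q : ℂ) * ((q : ℂ) ^ 2 - 1) := by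
    rw [Fus.PSLTwo.natCard_SL_two, ← hq]
    push_cast [Nat.cast_sub (show 1 ≤ q by omega)]
    ring
  have htot : ∑ ξ : IrrCharacter SS, ((q : ℂ) * b ξ) ^ 2 = (q : ℂ) ^ 3 := by
    have h11 := Cfsg.Agent.Char.sum_irr_mul_conj (1 : SS) 1
    have h1v := Cfsg.Agent.Char.sum_irr_mul_conj (1 : SS) v
    have hvv' := Cfsg.Agent.Char.sum_irr_mul_conj v v
    rw [if_pos (IsConj.refl _), centralizer_one_eq_top, Subgroup.card_top] at h11
    rw [if_neg (fun e => by rw [isConj_one_right.1 e, orderOf_one] at hv; omega)] at h1v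
    rw [if_pos (IsConj.refl _), ← hCdef, hC] at hvv'
    have hr : ∀ ξ : IrrCharacter SS, conj ((ξ : SS → ℂ) v) = (ξ : SS → ℂ) v ∧
        conj ((ξ : SS → ℂ) 1) = (ξ : SS → ℂ) 1 := fun ξ => by
      obtain ⟨m, hm⟩ := char_involution_int ξ hvv
      exact ⟨by rw [hm, map_intCast], by rw [charDeg_spec' ξ, map_natCast]⟩
    simp only [fun ξ => (hr ξ).1, fun ξ => (hr ξ).2] at h11 h1v hvv'
    calc ∑ ξ : IrrCharacter SS, ((q : ℂ) * b ξ) ^ 2
        = ∑ ξ : IrrCharacter SS, ((ξ : SS → ℂ) 1 * (ξ : SS → ℂ) 1 -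
            2 * ((ξ : SS → ℂ) 1 * (ξ : SS → ℂ) v) + (ξ : SS → ℂ) v * (ξ : SS → ℂ) v) :=
          Finset.sum_congr rfl fun ξ _ => by rw [← hb]; ring
      _ = (q : ℂ) ^ 3 := by
          rw [Finset.sum_add_distrib, Finset.sum_sub_distrib, ← Finset.mul_sum, h11, h1v, hvv', hcard]
          ring
  have hsum : ∑ ξ : IrrCharacter SS, b ξ ^ 2 = (q : ℤ) := by
    have h : ((∑ ξ : IrrCharacter SS, b ξ ^ 2 : ℤ) : ℂ) = ((q : ℤ) : ℂ) := by
      have hq0 : (q : ℂ) ^ 2 ≠ 0 := pow_ne_zero _ (Nat.cast_ne_zero.2 (by omega))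
      refine mul_left_cancel₀ hq0 ?_
      push_cast
      rw [Finset.mul_sum]
      simp only [mul_pow] at htot
      rw [htot]; ring
    exact_mod_cast h
  have htriv : b (trivialIrr SS) = 0 := by
    have := hb (trivialIrr SS)
    rw [triv_apply, triv_apply, sub_self, eq_comm, mul_eq_zero] at this
    exact_mod_cast this.resolve_left (Nat.cast_ne_zero.2 (by omega))
  have hall : ∀ ξ ∈ (Finset.univ : Finset (IrrCharacter SS)).erase (trivialIrr SS), (b ξ) ^ 2 - 1 = 0 := by
    refine (Finset.sum_eq_zero_iff_of_nonneg fun ξ hξ => ?_).1 ?_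
    · have := hb1 ξ fun e => Finset.ne_of_mem_erase hξ (Subtype.ext e)
      nlinarith
    · rw [Finset.sum_sub_distrib, Finset.sum_const, Finset.card_erase_of_mem (Finset.mem_univ _),
        Finset.card_univ, card_irr_sl_two h4, Finset.sum_erase _ (by rw [htriv]; rfl), hsum]
      simp [q]
  have hne : χ ∈ (Finset.univ : Finset (IrrCharacter SS)).erase (trivialIrr SS) :=
    Finset.mem_erase.2 ⟨fun e => hχ (by rw [e]; rfl), Finset.mem_univ _⟩
  have h1 := hall χ hne
  have h2 := hb1 χ hχ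
  have : b χ = 1 := by nlinarith
  rw [hb, this, Int.cast_one, mul_one]

end Cfsg.Agent.Block.ConstDiff
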