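import Cfsg.Agent.Lib.Block.ConstDiff.Basic
import Cfsg.Agent.Lib.Block.KleinFour
import Cfsg.Agent.Lib.Block.SectionRegular
import Cfsg.Agent.Lib.Invol.Sylow

/-!
The principal `2`-block for a four group with one class of involutions, on the regular elements.
-/

open scoped ComplexConjugate

set_option autoImplicit false
set_option linter.unusedSectionVars false
set_option linter.style.haveILetI false

namespace Cfsg.Agent.Block.ConstDiff

open Cfsg Cfsg.Agent.Char

universe u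

variable {W : Type u} [Group W] [Fintype W] {M : Ideal AlgInt}

/-- A character of the principal block takes at a singular element the value at an involution. -/
theorem singular_value (hM : IsPModular 2 M) (P : Sylow 2 W) (hP : IsKleinFour (P : Subgroup W))
    (hone : ∀ s t : W, orderOf s = 2 → orderOf t = 2 → IsConj s t) {χ : IrrCharacter W}
    (hχ : χ ∈ principalBlock M W) {g : W} (hg : 2 ∣ orderOf g) :
    ∃ z : W, orderOf z = 2 ∧ (χ : W → ℂ) g = (χ : W → ℂ) z := by
  haveI : Fact (Nat.Prime 2) := ⟨Nat.prime_two⟩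
  haveI := hP
  obtain ⟨z, y, hzy, hcomm, ⟨k, hk⟩, hy, -, -⟩ := exists_pPart_zpowers (p := 2) g
  have hz1 : z ≠ 1 := fun e => hy (by rw [← one_mul y, ← e, hzy]; exact hg)
  obtain ⟨c, hc⟩ := Invol.exists_conj_mem_sylow (p := 2) (n := k) hk P
  set z' := c * z * c⁻¹ with hz'
  have hz'1 : z' ≠ 1 := fun e => hz1 (conj_eq_one_iff.1 e)
  have ho : orderOf z' = 2 := by
    have h1 : orderOf (⟨z', hc⟩ : (P : Subgroup W)) = 2 :=
      orderOf_eq_prime (by rw [pow_two]; exact IsKleinFour.mul_self _) (fun e => hz'1 (congrArg Subtype.val e))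
    rwa [Subgroup.orderOf_mk] at h1
  obtain ⟨K, hKn, hK, hidx⟩ := klein_centralizer_complement P hP hc hz'1
  set y' := c * y * c⁻¹ with hy'
  have hy'o : ¬ 2 ∣ orderOf y' := by
    rwa [hy', show c * y * c⁻¹ = MulAut.conj c y from rfl, MulEquiv.orderOf_eq]
  have hy'C : y' ∈ Subgroup.centralizer ({z'} : Set W) :=
    Subgroup.mem_centralizer_singleton_iff.2 ((hcomm.map (MulAut.conj c).toMonoidHom).symm.eq)
  set yC : Subgroup.centralizer ({z'} : Set W) := ⟨y', hy'C⟩ with hyC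
  have hyo : ¬ 2 ∣ orderOf yC := by rwa [← Subgroup.orderOf_coe]
  cases nonempty_fintype (Subgroup.centralizer ({z'} : Set W))
  have h1 := section_mul_const hM (x := z') ⟨1, by rw [ho, pow_one]⟩ hK hχ (v := 1) (l := yC)
    (by rw [orderOf_one]; norm_num) (by rw [one_mul]; exact hyo)
    (regular_mem_of_index_pPow hidx hyo)
  rw [one_mul, Subgroup.coe_one, mul_one, show ((yC : _) : W) = y' from rfl,
    show z' * y' = c * g * c⁻¹ by rw [hz', hy', ← hzy]; group] at h1
  exact ⟨z', ho, by rw [← h1, irr_classFun χ g c]⟩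

/-- Functions on the regular elements describing the principal block. -/
theorem klein_functions (hM : IsPModular 2 M) (P : Sylow 2 W) (hP : IsKleinFour (P : Subgroup W))
    (hone : ∀ s t : W, orderOf s = 2 → orderOf t = 2 → IsConj s t) :
    ∃ A B : W → ℂ,
      (∀ ψ ∈ pb M W, ∃ a b c : ℤ, ∀ y : W, ¬ 2 ∣ orderOf y → (ψ : W → ℂ) y = a + b * A y + c * B y) ∧
      (∀ y y' : W, ¬ 2 ∣ orderOf y → ¬ 2 ∣ orderOf y' →
        ∑ ψ ∈ pb M W, (ψ : W → ℂ) y * conj ((ψ : W → ℂ) y') =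
          1 + A y * conj (A y') + B y * conj (B y') +
            (1 + A y + B y) * (1 + conj (A y') + conj (B y'))) ∧
      ∀ a b c : ℂ, (∀ y : W, ¬ 2 ∣ orderOf y → a + b * A y + c * B y = 0) → a = 0 ∧ b = 0 ∧ c = 0 := by
  classical
  obtain ⟨ζ₂, ζ₃, ζ₄, ε, hε, n2, n3, d23, d24, d34, hB, hv, -, -, -, hrel⟩ :=
    klein_principal hM P hP hone
  have hrel' : ∀ y : W, ¬ 2 ∣ orderOf y →
      1 + (ζ₂ : W → ℂ) y + (ε : ℂ) * (ζ₃ : W → ℂ) y = (ζ₄ : W → ℂ) y := fun y hy => by
    have := hrel y (Nat.not_even_iff_odd.1 fun h => hy (even_iff_two_dvd.1 h))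
    linear_combination this
  have hεε : (ε : ℂ) * ε = 1 := by rcases hε with rfl | rfl <;> norm_num
  have hne : ∀ (ζ : IrrCharacter W), (ζ : W → ℂ) ≠ (fun _ => 1) → trivialIrr W ≠ ζ := fun ζ h e => by
    subst e; exact h rfl
  have n4 : (ζ₄ : W → ℂ) ≠ fun _ => 1 := by
    intro h
    obtain ⟨w, hw⟩ : ∃ w : W, orderOf w = 2 := by
      haveI := hP
      haveI : Nontrivial (P : Subgroup W) := Finite.one_lt_card_iff_nontrivial.1 (by
        rw [IsKleinFour.card_four]; norm_num)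
      obtain ⟨w, hw⟩ := exists_ne (1 : (P : Subgroup W))
      exact ⟨w, by rw [Subgroup.orderOf_coe]; exact orderOf_eq_prime (by rw [pow_two]; exact IsKleinFour.mul_self _) hw⟩
    have h1 := (hv w hw).2.2
    rw [h] at h1
    norm_num at h1
  have hpb : pb M W = {trivialIrr W, ζ₂, ζ₃, ζ₄} := by
    ext χ
    rw [mem_pb, hB]
    simp only [Set.mem_setOf_eq, Finset.mem_insert, Finset.mem_singleton]
    exact or_congr ⟨fun h => Subtype.ext h, fun h => by rw [h]; rfl⟩ Iff.rfl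
  refine ⟨fun y => (ζ₂ : W → ℂ) y, fun y => (ε : ℂ) * (ζ₃ : W → ℂ) y, ?_, ?_, ?_⟩
  · intro ψ hψ
    rw [hpb] at hψ
    simp only [Finset.mem_insert, Finset.mem_singleton] at hψ
    rcases hψ with rfl | rfl | rfl | rfl
    · exact ⟨1, 0, 0, fun y _ => by rw [triv_apply]; simp⟩
    · exact ⟨0, 1, 0, fun y _ => by simp⟩
    · exact ⟨0, 0, ε, fun y _ => by rw [← mul_assoc, hεε]; simp⟩
    · exact ⟨1, 1, 1, fun y hy => by rw [← hrel' y hy]; simp⟩
  · intro y y' hy hy'
    rw [hpb, Finset.sum_insert, Finset.sum_insert, Finset.sum_pair d34, triv_apply, triv_apply,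
      map_one, mul_one, map_mul, map_intCast, ← hrel' y hy, ← hrel' y' hy', map_add, map_add, map_one,
      map_mul, map_intCast]
    · linear_combination (-((ζ₃ : W → ℂ) y * conj ((ζ₃ : W → ℂ) y'))) * hεε
    · simp [d23, d24]
    · simp [hne _ n2, hne _ n3, hne _ n4]
  · intro a b c habc
    let f : W → ℂ := fun g => a + b * (ζ₂ : W → ℂ) g + c * ((ε : ℂ) * (ζ₃ : W → ℂ) g)
    have hsing : ∀ ψ ∈ pb M W, ∀ e : ℂ, (∀ w : W, orderOf w = 2 → (ψ : W → ℂ) w = e) → ∀ g : W,
        2 ∣ orderOf g → (ψ : W → ℂ) g = e := by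
      intro ψ hψ e he g hg
      obtain ⟨z, hz, hgz⟩ := singular_value hM P hP hone (mem_pb.1 hψ) hg
      rw [hgz, he z hz]
    have m2 : ζ₂ ∈ pb M W := by rw [hpb]; simp
    have m3 : ζ₃ ∈ pb M W := by rw [hpb]; simp
    have h2s := hsing ζ₂ m2 1 fun w hw => (hv w hw).1
    have h3s := hsing ζ₃ m3 (ε : ℂ) fun w hw => (hv w hw).2.1
    set κ : ℂ := (Nat.card W : ℂ)⁻¹ *
      ((Finset.univ.filter fun g : W => 2 ∣ orderOf g).card * (a + b + c)) with hκ
    have hval : ∀ (ψ : IrrCharacter W) (e : ℂ), (∀ g : W, 2 ∣ orderOf g → (ψ : W → ℂ) g = e) →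
        a * classInner (fun _ : W => (1 : ℂ)) (ψ : W → ℂ) + b * classInner (ζ₂ : W → ℂ) (ψ : W → ℂ) +
          c * ((ε : ℂ) * classInner (ζ₃ : W → ℂ) (ψ : W → ℂ)) = κ * conj e := by
      intro ψ e he
      calc _ = (Nat.card W : ℂ)⁻¹ * ∑ g : W, f g * conj ((ψ : W → ℂ) g) := by
            simp only [classInner, f, add_mul, Finset.sum_add_distrib, mul_assoc, ← Finset.mul_sum]
            ring
        _ = (Nat.card W : ℂ)⁻¹ * ∑ g ∈ Finset.univ.filter (fun g : W => 2 ∣ orderOf g), (a + b + c) * conj e := by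
            congr 1
            rw [Finset.sum_filter]
            refine Finset.sum_congr rfl fun g _ => ?_
            split_ifs with hg
            · simp only [f, he g hg, h2s g hg, h3s g hg, hεε, mul_one]
            · simp only [f, habc g hg, zero_mul]
        _ = _ := by rw [Finset.sum_const, nsmul_eq_mul, hκ]; ring
    have i11 : ∀ ζ : IrrCharacter W, classInner (ζ : W → ℂ) (ζ : W → ℂ) = 1 := fun ζ => classInner_self_irr ζ.2
    have ine : ∀ ζ ξ : IrrCharacter W, ζ ≠ ξ → classInner (ζ : W → ℂ) (ξ : W → ℂ) = 0 := fun ζ ξ h =>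
      classInner_irr_ne ζ.2 ξ.2 fun e => h (Subtype.ext e)
    have e1 := hval (trivialIrr W) 1 fun g _ => rfl
    have e2 := hval ζ₂ 1 h2s
    have e3 := hval ζ₃ (ε : ℂ) h3s
    rw [show (fun _ : W => (1 : ℂ)) = (trivialIrr W : W → ℂ) from rfl] at e1 e2 e3
    rw [i11, ine _ _ (hne _ n2).symm, ine _ _ (hne _ n3).symm, map_one] at e1
    rw [i11, ine _ _ (hne _ n2), ine _ _ d23.symm, map_one] at e2
    rw [i11, ine _ _ (hne _ n3), ine _ _ d23, map_intCast] at e3
    simp only [mul_zero, mul_one, add_zero, zero_add] at e1 e2 e3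
    have hb : b = a := e2.trans e1.symm
    have hc : c = a := by linear_combination (ε : ℂ) * e3 - e1 + (κ - c) * hεε
    have h0 := habc 1 (by simp)
    simp only at h0
    rw [hb, hc, show a + a * (ζ₂ : W → ℂ) 1 + a * ((ε : ℂ) * (ζ₃ : W → ℂ) 1) = a * (ζ₄ : W → ℂ) 1 by
      rw [← hrel' 1 (by simp)]; ring, mul_eq_zero] at h0
    have ha : a = 0 := h0.resolve_right (irr_one_ne_zero ζ₄)
    exact ⟨ha, hb.trans ha, hc.trans ha⟩

end Cfsg.Agent.Block.ConstDiff
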