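import Mathlib

/-!
The rows of generalised decomposition numbers for an involution in a Sylow subgroup of order eight:
no system has all its values at least `-4`.
-/

set_option autoImplicit false

namespace Cfsg.Agent.Block.ConstDiff

open Finset

/-- The value (three times) attached to a row by the column sums `D₂`, `D₃`. -/
def rowValue (D₂ D₃ a b c : ℤ) : ℤ :=
  3 * a - b - c - 4 * ((2 * D₂ - D₃) * b + (2 * D₃ - D₂) * c)

/-- A linear certificate against a system of rows. -/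
theorem cert_bound {ι : Type*} (s : Finset ι) (a b c : ι → ℤ) (y₁ y₂ y₃ y₄ y₅ y₆ y₇ y₈ y₉ : ℤ)
    (h : ∀ i ∈ s, y₁ * a i ^ 2 + y₂ * b i ^ 2 + y₃ * c i ^ 2 + y₄ * (a i * b i) + y₅ * (a i * c i) +
      y₆ * (b i * c i) + y₇ * a i + y₈ * b i + y₉ * c i ≤ 0) :
    y₁ * (∑ i ∈ s, a i ^ 2) + y₂ * (∑ i ∈ s, b i ^ 2) + y₃ * (∑ i ∈ s, c i ^ 2) +
      y₄ * (∑ i ∈ s, a i * b i) + y₅ * (∑ i ∈ s, a i * c i) + y₆ * (∑ i ∈ s, b i * c i) +
      y₇ * (∑ i ∈ s, a i) + y₈ * (∑ i ∈ s, b i) + y₉ * (∑ i ∈ s, c i) ≤ 0 := by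
  simp only [Finset.mul_sum, ← Finset.sum_add_distrib]
  exact Finset.sum_nonpos h

theorem abs_sum_le {ι : Type*} (s : Finset ι) (f : ι → ℤ) :
    -(∑ i ∈ s, f i ^ 2) ≤ ∑ i ∈ s, f i ∧ ∑ i ∈ s, f i ≤ ∑ i ∈ s, f i ^ 2 := by
  refine ⟨?_, Finset.sum_le_sum fun i _ => Int.le_self_sq _⟩
  rw [← Finset.sum_neg_distrib]
  refine Finset.sum_le_sum fun i _ => ?_
  have := Int.le_self_sq (-f i)
  rw [neg_sq] at this
  omega

theorem sum_parity {ι : Type*} (s : Finset ι) (f : ι → ℤ) :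
    Even (∑ i ∈ s, f i ^ 2 - ∑ i ∈ s, f i) := by
  rw [← Finset.sum_sub_distrib]
  refine Finset.even_sum _ fun i _ => ?_
  rw [Int.even_sub, Int.even_pow' two_ne_zero]

/-- A single entry `±2` in a column of norm four. -/
theorem single_two {ι : Type*} (s : Finset ι) (b c : ι → ℤ) (h22 : ∑ i ∈ s, b i ^ 2 = 4)
    (h23 : ∑ i ∈ s, b i * c i = 2) {i : ι} (hi : i ∈ s) (hb : ¬ (b i ^ 2 ≤ 1)) :
    (∀ j ∈ s, j ≠ i → b j = 0) ∧ ∑ j ∈ s, b j = b i ∧ b i * c i = 2 := by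
  classical
  have h0 : ∀ j ∈ s, j ≠ i → b j = 0 := by
    intro j hj hne
    by_contra hb0
    have h1 : 1 ≤ b j ^ 2 := by
      have := sq_pos_of_ne_zero hb0
      omega
    have h4 : 4 ≤ b i ^ 2 := by
      have h2 : 2 ≤ b i ∨ b i ≤ -2 := by
        by_contra hh
        push Not at hh
        obtain ⟨h', h''⟩ := hh
        interval_cases h : b i <;> simp at hb
      rcases h2 with h2 | h2 <;> nlinarith
    have hle : b i ^ 2 + b j ^ 2 ≤ ∑ m ∈ s, b m ^ 2 := by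
      rw [← Finset.sum_pair (f := fun m => b m ^ 2) hne.symm]
      exact Finset.sum_le_sum_of_subset_of_nonneg (by simp [Finset.insert_subset_iff, hi, hj])
        fun m _ _ => sq_nonneg _
    omega
  refine ⟨h0, Finset.sum_eq_single_of_mem i hi h0, ?_⟩
  rw [← h23]
  exact (Finset.sum_eq_single_of_mem (f := fun j => b j * c j) i hi
    fun j hj hne => by simp [h0 j hj hne]).symm

/-- The value of a certificate at a row. -/
def certVal (y : List ℤ) (a b c : ℤ) : ℤ :=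
  match y with
  | [y₁, y₂, y₃, y₄, y₅, y₆, y₇, y₈, y₉] => y₁ * a ^ 2 + y₂ * b ^ 2 + y₃ * c ^ 2 + y₄ * (a * b) +
      y₅ * (a * c) + y₆ * (b * c) + y₇ * a + y₈ * b + y₉ * c
  | _ => 0

/-- A certificate is non-positive at every admissible row in the given ranges. -/
def certOK (y lb lc : List ℤ) (D₂ D₃ : ℤ) : Bool :=
  [-1, 0, 1].all fun a => lb.all fun b => lc.all fun c =>
    decide (rowValue D₂ D₃ a b c < -12) || decide (certVal y a b c ≤ 0)

theorem certOK_spec {y lb lc : List ℤ} {D₂ D₃ a b c : ℤ} (h : certOK y lb lc D₂ D₃ = true)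
    (ha : -1 ≤ a ∧ a ≤ 1) (hb : b ∈ lb) (hc : c ∈ lc) (hv : -12 ≤ rowValue D₂ D₃ a b c) :
    certVal y a b c ≤ 0 := by
  have hmem : a ∈ ([-1, 0, 1] : List ℤ) := by
    simp only [List.mem_cons, List.not_mem_nil, or_false]
    omega
  simp only [certOK, List.all_eq_true, Bool.or_eq_true, decide_eq_true_eq] at h
  rcases h a hmem b hb c hc with h | h
  · omega
  · exact h

theorem mem_five {b : ℤ} (h : -2 ≤ b ∧ b ≤ 2) : b ∈ ([-2, -1, 0, 1, 2] : List ℤ) := by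
  simp only [List.mem_cons, List.not_mem_nil, or_false]
  omega

theorem mem_three {b : ℤ} (h : -1 ≤ b ∧ b ≤ 1) : b ∈ ([-1, 0, 1] : List ℤ) := by
  simp only [List.mem_cons, List.not_mem_nil, or_false]
  omega

/-- No system of rows with Gram matrix `[[3,2,2],[2,4,2],[2,2,4]]` has all values at least `-4`. -/
theorem no_rows {ι : Type*} (s : Finset ι) (a b c : ι → ℤ)
    (h11 : ∑ i ∈ s, a i ^ 2 = 3) (h22 : ∑ i ∈ s, b i ^ 2 = 4) (h33 : ∑ i ∈ s, c i ^ 2 = 4)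
    (h12 : ∑ i ∈ s, a i * b i = 2) (h13 : ∑ i ∈ s, a i * c i = 2) (h23 : ∑ i ∈ s, b i * c i = 2)
    (hD : ∑ i ∈ s, b i + ∑ i ∈ s, c i = 3 * ∑ i ∈ s, a i + 1)
    (hv : ∀ i ∈ s, -12 ≤ rowValue (∑ j ∈ s, b j) (∑ j ∈ s, c j) (a i) (b i) (c i)) : False := by
  classical
  have ra : ∀ i ∈ s, -1 ≤ a i ∧ a i ≤ 1 := fun i hi => by
    have : a i ^ 2 ≤ 3 := h11 ▸ Finset.single_le_sum (fun j _ => sq_nonneg (a j)) hi
    constructor <;> nlinarith
  have rb : ∀ i ∈ s, -2 ≤ b i ∧ b i ≤ 2 := fun i hi => by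
    have : b i ^ 2 ≤ 4 := h22 ▸ Finset.single_le_sum (fun j _ => sq_nonneg (b j)) hi
    constructor <;> nlinarith
  have rc : ∀ i ∈ s, -2 ≤ c i ∧ c i ≤ 2 := fun i hi => by
    have : c i ^ 2 ≤ 4 := h33 ▸ Finset.single_le_sum (fun j _ => sq_nonneg (c j)) hi
    constructor <;> nlinarith
  set A := ∑ i ∈ s, a i with hA
  set B := ∑ i ∈ s, b i with hB
  set C := ∑ i ∈ s, c i with hC
  have bA := abs_sum_le s a
  have bB := abs_sum_le s b
  have bC := abs_sum_le s c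
  rw [h11, ← hA] at bA
  rw [h22, ← hB] at bB
  rw [h33, ← hC] at bC
  obtain ⟨pA, eA⟩ := sum_parity s a
  obtain ⟨pB, eB⟩ := sum_parity s b
  obtain ⟨pC, eC⟩ := sum_parity s c
  rw [h11, ← hA] at eA
  rw [h22, ← hB] at eB
  rw [h33, ← hC] at eC
  have hcases : (A = -3 ∧ B = -4 ∧ C = -4) ∨ (A = -1 ∧ B = -4 ∧ C = 2) ∨ (A = -1 ∧ B = -2 ∧ C = 0) ∨
      (A = -1 ∧ B = 0 ∧ C = -2) ∨ (A = -1 ∧ B = 2 ∧ C = -4) ∨ (A = 1 ∧ B = 0 ∧ C = 4) ∨
      (A = 1 ∧ B = 2 ∧ C = 2) ∨ (A = 1 ∧ B = 4 ∧ C = 0) := by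
    have qA : A = -3 ∨ A = -1 ∨ A = 1 ∨ A = 3 := by clear hv; omega
    have qB : B = -4 ∨ B = -2 ∨ B = 0 ∨ B = 2 ∨ B = 4 := by clear hv; omega
    have qC : C = -4 ∨ C = -2 ∨ C = 0 ∨ C = 2 ∨ C = 4 := by clear hv; omega
    have hC' : C = 3 * A + 1 - B := by omega
    clear hv hD eA eB eC
    rw [hC'] at qC ⊢
    rcases qA with q | q | q | q <;> rcases qB with r | r | r | r | r <;> rw [q, r] at qC ⊢ <;>
      simp at qC ⊢
  rcases hcases with ⟨e1, e2, e3⟩ | ⟨e1, e2, e3⟩ | ⟨e1, e2, e3⟩ | ⟨e1, e2, e3⟩ | ⟨e1, e2, e3⟩ |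
    ⟨e1, e2, e3⟩ | ⟨e1, e2, e3⟩ | ⟨e1, e2, e3⟩ <;> rw [e2, e3] at hv
  · have h := cert_bound s a b c (-12) 5 (-2) 12 12 3 (-12) (-12) (-12) fun i hi => by
      have w := certOK_spec (y := [-12, 5, -2, 12, 12, 3, -12, -12, -12]) (show certOK _ [-2, -1, 0, 1, 2] [-2, -1, 0, 1, 2] (-4) (-4) = true by decide)
        (ra i hi) (mem_five (rb i hi)) (mem_five (rc i hi)) (hv i hi)
      exact w
    rw [h11, h22, h33, h12, h13, h23, ← hA, ← hB, ← hC, e1, e2, e3] at h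
    norm_num at h
  · have h := cert_bound s a b c 0 1 0 0 0 (-1) 0 (-2) 2 fun i hi => by
      have w := certOK_spec (y := [0, 1, 0, 0, 0, -1, 0, -2, 2]) (show certOK _ [-2, -1, 0, 1, 2] [-2, -1, 0, 1, 2] (-4) (2) = true by decide)
        (ra i hi) (mem_five (rb i hi)) (mem_five (rc i hi)) (hv i hi)
      exact w
    rw [h11, h22, h33, h12, h13, h23, ← hA, ← hB, ← hC, e1, e2, e3] at h
    norm_num at h
  · have hb1 : ∀ i ∈ s, -1 ≤ b i ∧ b i ≤ 1 := fun i hi => by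
      by_cases hb : b i ^ 2 ≤ 1
      · constructor <;> nlinarith
      obtain ⟨-, hs, hbc⟩ := single_two s b c h22 h23 hi hb
      rw [← hB, e2] at hs
      have w := hv i hi
      rw [← hs] at hbc w
      have := ra i hi
      simp only [rowValue] at w
      omega
    have h := cert_bound s a b c (-3) 4 (-4) 4 (-2) 0 (-1) (-4) 4 fun i hi => by
      have w := certOK_spec (y := [-3, 4, -4, 4, -2, 0, -1, -4, 4]) (show certOK _ [-1, 0, 1] [-2, -1, 0, 1, 2] (-2) (0) = true by decide)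
        (ra i hi) (mem_three (hb1 i hi)) (mem_five (rc i hi)) (hv i hi)
      exact w
    rw [h11, h22, h33, h12, h13, h23, ← hA, ← hB, ← hC, e1, e2, e3] at h
    norm_num at h
  · have hc1 : ∀ i ∈ s, -1 ≤ c i ∧ c i ≤ 1 := fun i hi => by
      by_cases hc : c i ^ 2 ≤ 1
      · constructor <;> nlinarith
      obtain ⟨-, hs, hcb⟩ := single_two s c b h33 (by simp only [mul_comm]; exact h23) hi hc
      rw [← hC, e3] at hs
      have w := hv i hi
      rw [← hs] at hcb w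
      have := ra i hi
      simp only [rowValue] at w
      omega
    have h := cert_bound s a b c (-1) (-2) 2 2 2 (-4) (-1) 2 (-2) fun i hi => by
      have w := certOK_spec (y := [-1, -2, 2, 2, 2, -4, -1, 2, -2]) (show certOK _ [-2, -1, 0, 1, 2] [-1, 0, 1] (0) (-2) = true by decide)
        (ra i hi) (mem_five (rb i hi)) (mem_three (hc1 i hi)) (hv i hi)
      exact w
    rw [h11, h22, h33, h12, h13, h23, ← hA, ← hB, ← hC, e1, e2, e3] at h
    norm_num at h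
  · have h := cert_bound s a b c 0 0 1 0 0 (-1) 0 2 (-2) fun i hi => by
      have w := certOK_spec (y := [0, 0, 1, 0, 0, -1, 0, 2, -2]) (show certOK _ [-2, -1, 0, 1, 2] [-2, -1, 0, 1, 2] (2) (-4) = true by decide)
        (ra i hi) (mem_five (rb i hi)) (mem_five (rc i hi)) (hv i hi)
      exact w
    rw [h11, h22, h33, h12, h13, h23, ← hA, ← hB, ← hC, e1, e2, e3] at h
    norm_num at h
  · have h := cert_bound s a b c 0 (-2) 6 5 2 (-5) 0 (-7) 14 fun i hi => by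
      have w := certOK_spec (y := [0, -2, 6, 5, 2, -5, 0, -7, 14]) (show certOK _ [-2, -1, 0, 1, 2] [-2, -1, 0, 1, 2] (0) (4) = true by decide)
        (ra i hi) (mem_five (rb i hi)) (mem_five (rc i hi)) (hv i hi)
      exact w
    rw [h11, h22, h33, h12, h13, h23, ← hA, ← hB, ← hC, e1, e2, e3] at h
    norm_num at h
  · have h := cert_bound s a b c (-1) (-1) (-2) 2 2 2 (-1) 1 2 fun i hi => by
      have w := certOK_spec (y := [-1, -1, -2, 2, 2, 2, -1, 1, 2]) (show certOK _ [-2, -1, 0, 1, 2] [-2, -1, 0, 1, 2] (2) (2) = true by decide)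
        (ra i hi) (mem_five (rb i hi)) (mem_five (rc i hi)) (hv i hi)
      exact w
    rw [h11, h22, h33, h12, h13, h23, ← hA, ← hB, ← hC, e1, e2, e3] at h
    norm_num at h
  · have h := cert_bound s a b c 0 6 (-2) 2 5 (-5) 0 14 (-7) fun i hi => by
      have w := certOK_spec (y := [0, 6, -2, 2, 5, -5, 0, 14, -7]) (show certOK _ [-2, -1, 0, 1, 2] [-2, -1, 0, 1, 2] (4) (0) = true by decide)
        (ra i hi) (mem_five (rb i hi)) (mem_five (rc i hi)) (hv i hi)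
      exact w
    rw [h11, h22, h33, h12, h13, h23, ← hA, ← hB, ← hC, e1, e2, e3] at h
    norm_num at h

end Cfsg.Agent.Block.ConstDiff
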