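import Cfsg.Agent.Lib.Block.ConstDiff.Basic
import Cfsg.Agent.Lib.Char.Kernel

/-!
The principal block of a group with a central involution and an elementary abelian Sylow
`2`-subgroup is twice the principal block of the quotient by that involution.
-/

open scoped ComplexConjugate

set_option autoImplicit false
set_option linter.unusedSectionVars false
set_option linter.style.haveILetI false

namespace Cfsg.Agent.Block.ConstDiff

open Cfsg Cfsg.Agent.Char Subgroup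

universe u

variable {W : Type u} [Group W] [Fintype W] {M : Ideal AlgInt}

theorem sign_of_sq {x : ℂˣ} (h : x * x = 1) : (x : ℂ) = 1 ∨ (x : ℂ) = -1 := by
  have h1 := congrArg Units.val h
  rw [Units.val_mul, Units.val_one] at h1
  rwa [← sq_eq_one_iff, sq]

/-- A sign character not trivial on a central involution. -/
theorem exists_sign (S : Sylow 2 W) (hS : ∀ x ∈ (S : Subgroup W), x * x = 1)
    {z : W} (hz : z ∈ center W) (hz2 : orderOf z = 2) :
    ∃ μ : W →* ℂˣ, (∀ g, μ g * μ g = 1) ∧ (μ z : ℂ) = -1 ∧ ∀ y, ¬ 2 ∣ orderOf y → μ y = 1 := by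
  classical
  haveI : Fact (Nat.Prime 2) := ⟨Nat.prime_two⟩
  have hzS : z ∈ (S : Subgroup W) := by
    obtain ⟨R, hR⟩ := (IsPGroup.of_card (p := 2) (n := 1)
      (show Nat.card (zpowers z) = 2 ^ 1 by rw [Nat.card_zpowers, hz2, pow_one])).exists_le_sylow
    obtain ⟨g, hg⟩ := MulAction.exists_smul_eq W R S
    rw [← hg, Sylow.coe_subgroup_smul, Subgroup.mem_pointwise_smul_iff_inv_smul_mem]
    simp only [MulAut.smul_def, MulAut.conj_inv_apply]
    rw [mem_center_iff.1 hz g⁻¹, inv_mul_cancel_right]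
    exact hR (mem_zpowers z)
  have hcomm : ∀ a b : (S : Subgroup W), a * b = b * a := fun a b => by
    have hi := fun w : (S : Subgroup W) => inv_eq_of_mul_eq_one_right (Subtype.ext (hS w w.2) : w * w = 1)
    calc a * b = (a * b)⁻¹ := (hi _).symm
      _ = b * a := by rw [mul_inv_rev, hi, hi]
  have hz1 : z ≠ 1 := fun e => by rw [e, orderOf_one] at hz2; omega
  obtain ⟨l, hl⟩ : ∃ l : (S : Subgroup W) →* ℂˣ, l ⟨z, hzS⟩ ≠ 1 := by
    by_contra hno
    push Not at hno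
    exact hz1 (congrArg Subtype.val (eq_one_of_forall_linear hcomm hno))
  have hlsq : ∀ w : (S : Subgroup W), l w * l w = 1 := fun w => by
    rw [← map_mul, show w * w = 1 from Subtype.ext (hS w w.2), map_one]
  have hμsq : ∀ g, MonoidHom.transfer l g * MonoidHom.transfer l g = 1 := by
    intro g
    obtain ⟨T⟩ : Nonempty (S : Subgroup W).LeftTransversal := inferInstance
    rw [MonoidHom.transfer_def l T g, Subgroup.leftTransversals.diff, ← Finset.prod_mul_distrib]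
    exact Finset.prod_eq_one fun q _ => hlsq _
  refine ⟨MonoidHom.transfer l, hμsq, ?_, fun y hy => ?_⟩
  · rcases sign_of_sq (hμsq z) with h | h
    swap
    · exact h
    exfalso
    have key : ∀ (k : ℕ) (g₀ : W), g₀⁻¹ * z ^ k * g₀ ∈ (S : Subgroup W) → g₀⁻¹ * z ^ k * g₀ = z ^ k :=
      fun k g₀ _ => by rw [mem_center_iff.1 (pow_mem hz k) g₀⁻¹, inv_mul_cancel_right]
    rw [MonoidHom.transfer_eq_pow l z key, Units.val_eq_one] at h
    refine hl ?_
    rw [show (⟨z ^ (S : Subgroup W).index, MonoidHom.transfer_eq_pow_aux z key⟩ : (S : Subgroup W)) =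
      ⟨z, hzS⟩ ^ (S : Subgroup W).index from Subtype.ext (by simp), map_pow] at h
    obtain ⟨r, hr⟩ : Odd (S : Subgroup W).index :=
      Nat.not_even_iff_odd.1 fun he => S.not_dvd_index (even_iff_two_dvd.1 he)
    rwa [hr, pow_succ, pow_mul, pow_two, hlsq, one_pow, one_mul] at h
  · have h1 : orderOf (MonoidHom.transfer l y) ∣ 2 := orderOf_dvd_of_pow_eq_one (by rw [pow_two]; exact hμsq y)
    exact orderOf_eq_one_iff.1 (Nat.eq_one_of_dvd_coprimes
      (Nat.prime_two.coprime_iff_not_dvd.2 hy) h1 (orderOf_map_dvd _ y))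

variable {z : W} [(zpowers z).Normal]

/-- The regular elements of the quotient by a central involution lift uniquely. -/
theorem regTot_infl_central (hz : z ∈ center W) (hz2 : orderOf z = 2) [Fintype (W ⧸ zpowers z)]
    (f : W ⧸ zpowers z → ℂ) :
    PrinCol.regTot 2 (fun g : W => f (g : W ⧸ zpowers z)) = PrinCol.regTot 2 f := by
  classical
  haveI : Fact (Nat.Prime 2) := ⟨Nat.prime_two⟩
  rw [PrinCol.regTot, PrinCol.regTot]
  refine Finset.sum_bij (fun g _ => (g : W ⧸ zpowers z)) (fun g hg => ?_) (fun g hg g' hg' he => ?_)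
    (fun q hq => ?_) (fun g _ => rfl)
  · simp only [Finset.mem_filter, Finset.mem_univ, true_and] at hg ⊢
    exact fun h => hg (h.trans (orderOf_map_dvd (QuotientGroup.mk' _) g))
  · simp only [Finset.mem_filter, Finset.mem_univ, true_and] at hg hg'
    rw [QuotientGroup.eq] at he
    obtain ⟨i, hi⟩ := mem_zpowers_iff.1 he
    have hg'' : g' = g * z ^ i := by rw [hi]; group
    rcases Int.even_or_odd i with ⟨r, hr⟩ | ⟨r, hr⟩
    · rw [hg'', hr, ← two_mul, zpow_mul, show z ^ (2 : ℤ) = 1 by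
        rw [show (2 : ℤ) = ((2 : ℕ) : ℤ) from rfl, zpow_natCast, orderOf_dvd_iff_pow_eq_one.1 hz2.dvd],
        one_zpow, mul_one]
    · exfalso
      apply hg'
      rw [hg'', hr, zpow_add, zpow_mul, show z ^ (2 : ℤ) = 1 by
        rw [show (2 : ℤ) = ((2 : ℕ) : ℤ) from rfl, zpow_natCast, orderOf_dvd_iff_pow_eq_one.1 hz2.dvd],
        one_zpow, one_mul, zpow_one, (show Commute g z from mem_center_iff.1 hz g).orderOf_mul_eq_mul_orderOf_of_coprime
          (by rw [hz2]; exact (Nat.prime_two.coprime_iff_not_dvd.2 hg).symm), hz2]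
      exact dvd_mul_left 2 _
  · simp only [Finset.mem_filter, Finset.mem_univ, true_and] at hq
    obtain ⟨g, hg, hgo⟩ := exists_regular_lift (p := 2) (zpowers z) hq
    exact ⟨g, Finset.mem_filter.2 ⟨Finset.mem_univ _, hgo⟩, hg⟩

theorem infl_mem_central (hM : IsPModular 2 M) (hz : z ∈ center W) (hz2 : orderOf z = 2)
    (ψ : IrrCharacter (W ⧸ zpowers z)) :
    PrinCol.infl ψ ∈ pb M W ↔ ψ ∈ principalBlock M (W ⧸ zpowers z) := by
  haveI : Fact (Nat.Prime 2) := ⟨Nat.prime_two⟩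
  letI := Fintype.ofFinite (W ⧸ zpowers z)
  rw [mem_pb, PrinCol.mem_principal_iff hM, PrinCol.mem_principal_iff hM]
  show PrinCol.regTot 2 (fun g : W => (ψ : W ⧸ zpowers z → ℂ) (g : W ⧸ zpowers z)) ≠ 0 ↔ _
  rw [regTot_infl_central hz hz2]

/-- The twist of a character. -/
noncomputable def twist (μ : W →* ℂˣ) (ξ : IrrCharacter W) : IrrCharacter W :=
  ⟨fun g => (μ g : ℂ) * (ξ : W → ℂ) g, IsIrr.mul_linear ξ.2 μ⟩

theorem twist_mem (hM : IsPModular 2 M) {μ : W →* ℂˣ} (hμ : ∀ y, ¬ 2 ∣ orderOf y → μ y = 1)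
    {ξ : IrrCharacter W} (h : ξ ∈ pb M W) : twist μ ξ ∈ pb M W := by
  haveI : Fact (Nat.Prime 2) := ⟨Nat.prime_two⟩
  rw [mem_pb, PrinCol.mem_principal_iff hM] at h ⊢
  suffices e : PrinCol.regTot 2 (twist μ ξ : W → ℂ) = PrinCol.regTot 2 (ξ : W → ℂ) by rwa [e]
  refine Finset.sum_congr rfl fun x hx => ?_
  show (μ x : ℂ) * _ = _
  rw [hμ x (Finset.mem_filter.1 hx).2, Units.val_one, one_mul]

/-- The principal block through a central involution. -/
theorem central_block (hM : IsPModular 2 M) (S : Sylow 2 W) (hS : ∀ x ∈ (S : Subgroup W), x * x = 1)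
    (hz : z ∈ center W) (hz2 : orderOf z = 2) [Fintype (W ⧸ zpowers z)] :
    (∀ ξ ∈ pb M W, ∃ ψ ∈ pb M (W ⧸ zpowers z), ∃ e : ℤ, (∀ g : W, (ξ : W → ℂ) (z * g) = e * (ξ : W → ℂ) g) ∧
      ∀ y : W, ¬ 2 ∣ orderOf y → (ξ : W → ℂ) y = (ψ : W ⧸ zpowers z → ℂ) y) ∧
    ∀ y y' : W, ¬ 2 ∣ orderOf y → ¬ 2 ∣ orderOf y' →
      ∑ ξ ∈ pb M W, (ξ : W → ℂ) y * conj ((ξ : W → ℂ) y') =
        2 * ∑ ψ ∈ pb M (W ⧸ zpowers z), (ψ : W ⧸ zpowers z → ℂ) y *
          conj ((ψ : W ⧸ zpowers z → ℂ) y') := by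
  classical
  haveI : Fact (Nat.Prime 2) := ⟨Nat.prime_two⟩
  obtain ⟨μ, hμsq, hμz, hμreg⟩ := exists_sign S hS hz hz2
  set E := (pb M (W ⧸ zpowers z)).image (PrinCol.infl (N := zpowers z)) with hE
  have hEmem : ∀ ξ ∈ E, ξ ∈ pb M W ∧ ∀ g : W, (ξ : W → ℂ) (z * g) = (ξ : W → ℂ) g := by
    intro ξ hξ
    obtain ⟨ψ, hψ, rfl⟩ := Finset.mem_image.1 hξ
    refine ⟨(infl_mem_central hM hz hz2 ψ).2 (mem_pb.1 hψ), fun g => ?_⟩
    show (ψ : W ⧸ zpowers z → ℂ) ((z * g : W) : W ⧸ zpowers z) = (ψ : W ⧸ zpowers z → ℂ) g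
    rw [QuotientGroup.mk_mul, (QuotientGroup.eq_one_iff z).2 (mem_zpowers z), one_mul]
  have htt : ∀ ξ : IrrCharacter W, twist μ (twist μ ξ) = ξ := fun ξ => Subtype.ext (funext fun g => by
    show (μ g : ℂ) * ((μ g : ℂ) * (ξ : W → ℂ) g) = _
    rw [← mul_assoc, ← Units.val_mul, hμsq, Units.val_one, one_mul])
  have htz : ∀ (ξ : IrrCharacter W) (g : W), (twist μ ξ : W → ℂ) (z * g) =
      -((μ g : ℂ) * (ξ : W → ℂ) (z * g)) := fun ξ g => by
    show (μ (z * g) : ℂ) * _ = _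
    rw [map_mul, Units.val_mul, hμz]; ring
  have hcase : ∀ ξ ∈ pb M W, ξ ∈ E ∨ ∃ ξ' ∈ E, ξ = twist μ ξ' := by
    have hfac : ∀ ξ ∈ pb M W, (ξ : W → ℂ) z = (ξ : W → ℂ) 1 → ξ ∈ E := by
      intro ξ hξ h1
      obtain ⟨ψ, hψ, he⟩ := IsIrr.exists_factor_quotient ξ.2 (zpowers z) (fun k hk =>
        (mem_charKer (irr_isChar ξ)).1 (zpowers_le.2 ((mem_charKer (irr_isChar ξ)).2 h1) hk))
      have e : PrinCol.infl (⟨ψ, hψ⟩ : IrrCharacter (W ⧸ zpowers z)) = ξ := Subtype.ext (funext he)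
      exact Finset.mem_image.2 ⟨⟨ψ, hψ⟩, mem_pb.2 ((infl_mem_central hM hz hz2 _).1 (e ▸ hξ)), e⟩
    intro ξ hξ
    obtain ⟨c, -, hc⟩ := IsIrr.scalar_of_center ξ.2 hz
    have hcc : c * c = 1 := by
      have h1 := hc z
      rw [show z * z = 1 by rw [← pow_two]; exact orderOf_dvd_iff_pow_eq_one.1 hz2.dvd] at h1
      have h2 := hc 1
      rw [mul_one] at h2
      rw [h2, ← mul_assoc] at h1
      exact (mul_eq_right₀ (irr_one_ne_zero ξ)).1 h1.symm
    have h2 := hc 1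
    rw [mul_one] at h2
    rcases (sq_eq_one_iff.1 (by rw [sq]; exact hcc) : c = 1 ∨ c = -1) with rfl | rfl
    · exact Or.inl (hfac ξ hξ (by rw [h2, one_mul]))
    · refine Or.inr ⟨twist μ ξ, hfac _ (twist_mem hM hμreg hξ) ?_, (htt ξ).symm⟩
      show (μ z : ℂ) * (ξ : W → ℂ) z = (μ 1 : ℂ) * (ξ : W → ℂ) 1
      rw [hμz, h2, map_one, Units.val_one]; ring
  have htreg : ∀ (ξ : IrrCharacter W) (y : W), ¬ 2 ∣ orderOf y → (twist μ ξ : W → ℂ) y = (ξ : W → ℂ) y := by
    intro ξ y hy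
    show (μ y : ℂ) * _ = _
    rw [hμreg y hy, Units.val_one, one_mul]
  constructor
  · intro ξ hξ
    rcases hcase ξ hξ with h | ⟨ξ', h, rfl⟩
    · obtain ⟨ψ, hψ, rfl⟩ := Finset.mem_image.1 h
      exact ⟨ψ, hψ, 1, fun g => by rw [(hEmem _ h).2 g, Int.cast_one, one_mul], fun y _ => rfl⟩
    · obtain ⟨ψ, hψ, rfl⟩ := Finset.mem_image.1 h
      refine ⟨ψ, hψ, -1, fun g => ?_, fun y hy => htreg _ y hy⟩
      rw [htz, (hEmem _ h).2 g]
      show _ = ((-1 : ℤ) : ℂ) * ((μ g : ℂ) * _)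
      push_cast; ring
  · intro y y' hy hy'
    have hdisj : Disjoint E (E.image (twist μ)) := by
      rw [Finset.disjoint_left]
      intro ξ h1 h2
      obtain ⟨ξ', h3, rfl⟩ := Finset.mem_image.1 h2
      have e1 := (hEmem _ h1).2 1
      rw [mul_one] at e1
      have e2 := htz ξ' 1
      rw [mul_one, e1, map_one, Units.val_one, one_mul] at e2
      have e3 := (hEmem _ h3).2 1
      rw [mul_one] at e3
      rw [e3, htreg ξ' 1 (by simp)] at e2
      exact irr_one_ne_zero ξ' (by linear_combination e2 / 2)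
    have hpb : pb M W = E ∪ E.image (twist μ) := by
      ext ξ
      rw [Finset.mem_union]
      refine ⟨fun h => (hcase ξ h).imp id fun ⟨ξ', h', e⟩ => Finset.mem_image.2 ⟨ξ', h', e.symm⟩, ?_⟩
      rintro (h | h)
      · exact (hEmem ξ h).1
      · obtain ⟨ξ', h', rfl⟩ := Finset.mem_image.1 h
        exact twist_mem hM hμreg (hEmem ξ' h').1
    rw [hpb, Finset.sum_union hdisj, Finset.sum_image (Function.LeftInverse.injective htt).injOn,
      Finset.sum_congr rfl (g := fun ξ : IrrCharacter W => (ξ : W → ℂ) y * conj ((ξ : W → ℂ) y'))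
        (s₁ := E) (s₂ := E) (f := fun ξ : IrrCharacter W => (twist μ ξ : W → ℂ) y * conj ((twist μ ξ : W → ℂ) y'))
        (fun ξ _ => by rw [htreg ξ y hy, htreg ξ y' hy']),
      ← two_mul, hE, Finset.sum_image PrinCol.infl_injective.injOn]
    rfl

end Cfsg.Agent.Block.ConstDiff
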