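import Cfsg.Agent.Lib.Block.ConstDiff.Structure
import Cfsg.Agent.Lib.Block.ConstDiff.Klein
import Cfsg.Agent.Lib.Block.ConstDiff.Twist
import Cfsg.Agent.Lib.Block.ConstDiff.Rows
import Cfsg.Agent.Lib.Block.ElemEight.Column
import Cfsg.Agent.Lib.Block.SectionRegular

/-!
A constant difference is impossible for an elementary Sylow subgroup of order eight when the
centralizer of an involution has no normal `2`-complement.
-/

open scoped ComplexConjugate

set_option autoImplicit false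
set_option linter.unusedSectionVars false
set_option linter.style.haveILetI false

namespace Cfsg.Agent.Block.ConstDiff

open Cfsg Cfsg.Agent.Char Subgroup

universe u

variable {X : Type u} [Group X] [Fintype X] {M : Ideal AlgInt} {u t : X}

/-- Modulo a central involution: a four group with one class of involutions. -/
theorem quotient_klein {W : Type u} [Group W] [Finite W] (P : Sylow 2 W)
    (hP : ∀ x ∈ (P : Subgroup W), x * x = 1) (h8 : Nat.card (P : Subgroup W) = 8)
    {z : W} (hz : z ∈ center W) (hz2 : orderOf z = 2) [(zpowers z).Normal]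
    (hnc : ¬ Cfsg.HasNormalPComplement 2 W) :
    ∃ Q : Sylow 2 (W ⧸ zpowers z), IsKleinFour (Q : Subgroup (W ⧸ zpowers z)) ∧
      ∀ a b : W ⧸ zpowers z, orderOf a = 2 → orderOf b = 2 → IsConj a b := by
  classical
  haveI : Fact (Nat.Prime 2) := ⟨Nat.prime_two⟩
  set π := QuotientGroup.mk' (zpowers z) with hπ
  let Q : Sylow 2 (W ⧸ zpowers z) := P.mapSurjective (QuotientGroup.mk'_surjective (zpowers z))
  have hQmem : ∀ q, q ∈ (Q : Subgroup (W ⧸ zpowers z)) ↔ ∃ x ∈ (P : Subgroup W), π x = q :=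
    fun q => Iff.rfl
  have hzP : zpowers z ≤ (P : Subgroup W) := by
    obtain ⟨R, hR⟩ := (IsPGroup.of_card (p := 2) (n := 1)
      (show Nat.card (zpowers z) = 2 ^ 1 by rw [Nat.card_zpowers, hz2, pow_one])).exists_le_sylow
    obtain ⟨g, hg⟩ := MulAction.exists_smul_eq W R P
    rw [zpowers_le, ← hg, Sylow.coe_subgroup_smul, Subgroup.mem_pointwise_smul_iff_inv_smul_mem]
    simp only [MulAut.smul_def, MulAut.conj_inv_apply]
    rw [mem_center_iff.1 hz g⁻¹, inv_mul_cancel_right]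
    exact hR (mem_zpowers z)
  have hQ4 : Nat.card (Q : Subgroup (W ⧸ zpowers z)) = 4 := by
    rw [show (Q : Subgroup (W ⧸ zpowers z)) = (P : Subgroup W).map π from rfl, ← Subgroup.relIndex_ker,
      hπ, QuotientGroup.ker_mk']
    have h1 := Subgroup.card_mul_index ((zpowers z).subgroupOf (P : Subgroup W))
    rw [Nat.card_congr (subgroupOfEquivOfLe hzP).toEquiv, Nat.card_zpowers, hz2, h8] at h1
    show ((zpowers z).subgroupOf (P : Subgroup W)).index = 4
    omega
  have hQsq : ∀ q ∈ (Q : Subgroup (W ⧸ zpowers z)), q * q = 1 := by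
    intro q hq
    obtain ⟨x, hx, rfl⟩ := (hQmem q).1 hq
    rw [← map_mul, hP x hx, map_one]
  haveI : Nontrivial (Q : Subgroup (W ⧸ zpowers z)) := Finite.one_lt_card_iff_nontrivial.1 (by omega)
  have hK : IsKleinFour (Q : Subgroup (W ⧸ zpowers z)) := ⟨hQ4,
    (Monoid.exponent_eq_prime_iff Nat.prime_two).2 fun g hg => orderOf_eq_prime
      (Subtype.ext (by rw [Subgroup.coe_pow, pow_two]; exact hQsq g g.2)) hg⟩
  refine ⟨Q, hK, ?_⟩
  cases nonempty_fintype (Q : Subgroup (W ⧸ zpowers z))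
  -- an element of odd order moving the four group
  obtain ⟨v, hv, hvN, w, hwP, hvw⟩ : ∃ v : W, ¬ 2 ∣ orderOf v ∧
      v ∈ normalizer ((P : Subgroup W) : Set W) ∧ ∃ w ∈ (P : Subgroup W), v * w ≠ w * v := by
    by_contra hno
    push Not at hno
    have hN : normalizer ((P : Subgroup W) : Set W) ≤ centralizer ((P : Subgroup W) : Set W) := by
      intro n hn
      obtain ⟨a, b, hab, -, ⟨k, hk⟩, hb, ha', hb'⟩ := exists_pPart_zpowers (p := 2) n
      have haP : a ∈ (P : Subgroup W) := by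
        rw [← P.is_maximal' ((IsPGroup.of_card (n := k) (by rw [Nat.card_zpowers, hk])).to_sup_of_normal_right'
          P.isPGroup' (zpowers_le.2 (zpowers_le.2 hn ha'))) le_sup_right]
        exact mem_sup_left (mem_zpowers a)
      rw [mem_centralizer_iff]
      intro x hx
      have h1 := hno b hb (zpowers_le.2 hn hb') x hx
      have hi := fun {y : W} hy => inv_eq_of_mul_eq_one_right (hP y hy)
      have h2 : x * a = a * x := by
        calc x * a = (x * a)⁻¹ := (hi (mul_mem hx haP)).symm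
          _ = a * x := by rw [mul_inv_rev, hi hx, hi haP]
      rw [← hab, ← mul_assoc, h2, mul_assoc, ← h1, mul_assoc]
    exact hnc ⟨P, (MonoidHom.transferSylow P hN).ker, inferInstance,
      MonoidHom.ker_transferSylow_isComplement' P hN⟩
  have hzz : z * z = 1 := by rw [← pow_two]; exact orderOf_dvd_iff_pow_eq_one.1 hz2.dvd
  obtain ⟨m, hm⟩ : ∃ m : ℕ, (v ^ 2) ^ m = v :=
    exists_pow_eq_self_of_coprime (Nat.prime_two.coprime_iff_not_dvd.2 hv)
  have hfix : ∀ x : W, Commute (v ^ 2) x → Commute v x := fun x hx => hm ▸ hx.pow_left m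
  set a := π w with ha
  set c := π v with hc
  have hmoves : c * a * c⁻¹ ≠ a := by
    intro h
    have h1 : w⁻¹ * (v * w * v⁻¹) ∈ zpowers z := by
      rw [← QuotientGroup.eq_one_iff]
      show π (w⁻¹ * (v * w * v⁻¹)) = 1
      rw [map_mul, map_inv, map_mul, map_mul, map_inv, ← ha, ← hc, h, inv_mul_cancel]
    obtain ⟨i, hi⟩ := mem_zpowers_iff.1 h1
    set e := z ^ i with he
    have hec : ∀ g, g * e = e * g := fun g => mem_center_iff.1 (zpow_mem hz i) g
    have hee : e * e = 1 := by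
      rw [he, ← (Commute.refl z).mul_zpow, hzz, one_zpow]
    have h2 : v * w * v⁻¹ = w * e := by rw [hi]; group
    refine hvw (hfix w ?_).eq
    show v ^ 2 * w = w * v ^ 2
    refine mul_inv_eq_iff_eq_mul.1 ?_
    calc v ^ 2 * w * (v ^ 2)⁻¹ = v * (v * w * v⁻¹) * v⁻¹ := by rw [pow_two]; group
      _ = v * w * (e * v⁻¹) := by rw [h2]; group
      _ = v * w * (v⁻¹ * e) := by rw [hec v⁻¹]
      _ = (v * w * v⁻¹) * e := by group
      _ = w := by rw [h2, mul_assoc, hee, mul_one]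
  have hcQ : ∀ q ∈ (Q : Subgroup (W ⧸ zpowers z)), c * q * c⁻¹ ∈ (Q : Subgroup (W ⧸ zpowers z)) := by
    intro q hq
    obtain ⟨x, hx, rfl⟩ := (hQmem q).1 hq
    exact (hQmem _).2 ⟨v * x * v⁻¹, (mem_normalizer_iff.1 hvN x).1 hx, by rw [map_mul, map_mul, map_inv]⟩
  have hcm : (c ^ 2) ^ m = c := by rw [hc, ← map_pow, ← map_pow, hm]
  have haQ : a ∈ (Q : Subgroup (W ⧸ zpowers z)) := (hQmem _).2 ⟨w, hwP, rfl⟩
  have ha1 : a ≠ 1 := fun h => hmoves (by rw [h]; group)
  set b := c * a * c⁻¹ with hb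
  set d := c * b * c⁻¹ with hd
  have hb1 : b ≠ 1 := fun h => ha1 (conj_eq_one_iff.1 h)
  have hd1 : d ≠ 1 := fun h => hb1 (conj_eq_one_iff.1 h)
  have hbd : b ≠ d := fun h => hmoves (mul_left_cancel (mul_right_cancel (h.trans hd))).symm
  have had : a ≠ d := by
    intro h
    refine hmoves (mul_inv_eq_iff_eq_mul.2 ?_)
    have h2 : Commute (c ^ 2) a := by
      show c ^ 2 * a = a * c ^ 2
      refine mul_inv_eq_iff_eq_mul.1 ?_
      conv_rhs => rw [h, hd, hb]
      rw [pow_two]; group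
    exact (hcm ▸ h2.pow_left m : Commute c a).eq
  have hbQ := hcQ a haQ
  have hdQ := hcQ b hbQ
  have hall : ∀ x : W ⧸ zpowers z, x ∈ (Q : Subgroup (W ⧸ zpowers z)) → x ≠ 1 → IsConj a x := by
    intro x hx hx1
    have hset : ({⟨a, haQ⟩, ⟨b, hbQ⟩, ⟨d, hdQ⟩} : Finset (Q : Subgroup (W ⧸ zpowers z))) =
        Finset.univ.erase 1 := by
      refine Finset.eq_of_subset_of_card_le (fun y hy => ?_) ?_
      · simp only [Finset.mem_insert, Finset.mem_singleton] at hy
        refine Finset.mem_erase.2 ⟨fun e => ?_, Finset.mem_univ _⟩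
        rcases hy with rfl | rfl | rfl
        · exact ha1 (congrArg Subtype.val e)
        · exact hb1 (congrArg Subtype.val e)
        · exact hd1 (congrArg Subtype.val e)
      · rw [Finset.card_erase_of_mem (Finset.mem_univ _), Finset.card_univ, ← Nat.card_eq_fintype_card, hQ4,
          Finset.card_insert_of_notMem (by simp [Subtype.ext_iff, Ne.symm hmoves, had]),
          Finset.card_pair (by simp [Subtype.ext_iff, hbd])]
    have hmem : (⟨x, hx⟩ : (Q : Subgroup (W ⧸ zpowers z))) ∈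
        ({⟨a, haQ⟩, ⟨b, hbQ⟩, ⟨d, hdQ⟩} : Finset (Q : Subgroup (W ⧸ zpowers z))) :=
      hset ▸ Finset.mem_erase.2 ⟨fun e => hx1 (congrArg Subtype.val e), Finset.mem_univ _⟩
    simp only [Finset.mem_insert, Finset.mem_singleton, Subtype.ext_iff] at hmem
    rcases hmem with rfl | rfl | rfl
    · exact IsConj.refl _
    · exact isConj_iff.2 ⟨c, rfl⟩
    · exact (isConj_iff.2 ⟨c, rfl⟩ : IsConj a b).trans (isConj_iff.2 ⟨c, rfl⟩)
  intro x y hx hy
  have key : ∀ x : W ⧸ zpowers z, orderOf x = 2 → IsConj a x := by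
    intro x hx
    obtain ⟨g, hg⟩ := Invol.exists_conj_mem_sylow (p := 2) (n := 1) (x := x) (by rw [hx, pow_one]) Q
    exact (hall _ hg (fun e => by rw [conj_eq_one_iff.1 e, orderOf_one] at hx; omega)).trans
      (isConj_iff.2 ⟨g, rfl⟩).symm
  exact (key x hx).symm.trans (key y hy)

/-- The section at `t` by two functions on the regular elements of its centralizer. -/
theorem section_functions (hM : IsPModular 2 M) (ht : orderOf t = 2) (S : Sylow 2 X)
    (hall : ∀ v : X, (∃ j : ℕ, orderOf v = 2 ^ j) → v ≠ 1 → IsConj t v)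
    (h8 : Nat.card (S : Subgroup X) = 8)
    (hnc : ¬ Cfsg.HasNormalPComplement 2 ↥(centralizer ({t} : Set X))) :
    ∃ A B : ↥(centralizer ({t} : Set X)) → ℂ,
      (∀ χ ∈ pb M X, ∃ a b c : ℤ, ∀ y : ↥(centralizer ({t} : Set X)), ¬ 2 ∣ orderOf y →
        (χ : X → ℂ) (t * (y : X)) = a + b * A y + c * B y) ∧
      (∀ y y' : ↥(centralizer ({t} : Set X)), ¬ 2 ∣ orderOf y → ¬ 2 ∣ orderOf y' →
        ∑ χ ∈ pb M X, (χ : X → ℂ) (t * (y : X)) * conj ((χ : X → ℂ) (t * (y' : X))) =
          2 * (1 + A y * conj (A y') + B y * conj (B y') +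
            (1 + A y + B y) * (1 + conj (A y') + conj (B y')))) ∧
      ∀ a b c : ℂ, (∀ y, ¬ 2 ∣ orderOf y → a + b * A y + c * B y = 0) → a = 0 ∧ b = 0 ∧ c = 0 := by
  classical
  haveI : Fact (Nat.Prime 2) := ⟨Nat.prime_two⟩
  cases nonempty_fintype ↥(centralizer ({t} : Set X))
  have hz : ∃ j : ℕ, orderOf t = 2 ^ j := ⟨1, by rw [ht, pow_one]⟩
  set z : ↥(centralizer ({t} : Set X)) := ⟨t, centralizer_self_mem t⟩ with hzdef
  have hzc : z ∈ center ↥(centralizer ({t} : Set X)) := mem_center_iff.2 fun g =>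
    Subtype.ext (mem_centralizer_singleton_iff.1 g.2)
  have hz2 : orderOf z = 2 := by rw [hzdef, Subgroup.orderOf_mk, ht]
  haveI hN : (zpowers z).Normal := ⟨fun n hn g => by
    obtain ⟨i, rfl⟩ := mem_zpowers_iff.1 hn
    rw [mem_center_iff.1 (zpow_mem hzc i) g, mul_inv_cancel_right]
    exact hn⟩
  obtain ⟨P, hP⟩ := (IsPGroup.of_card (p := 2) (n := 1)
    (show Nat.card (zpowers t) = 2 ^ 1 by rw [Nat.card_zpowers, ht, pow_one])).exists_le_sylow
  have hle : (P : Subgroup X) ≤ centralizer ({t} : Set X) := fun x hx =>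
    mem_centralizer_singleton_iff.2 (sylow_comm hall ht P hx (hP (mem_zpowers t)))
  let R : Sylow 2 ↥(centralizer ({t} : Set X)) := P.subtype hle
  have hRsq : ∀ x ∈ (R : Subgroup ↥(centralizer ({t} : Set X))), x * x = 1 := fun x hx =>
    Subtype.ext (sylow_sq hall ht P hx)
  have hR8 : Nat.card (R : Subgroup ↥(centralizer ({t} : Set X))) = 8 :=
    (Nat.card_congr (subgroupOfEquivOfLe hle).toEquiv).trans
      ((Nat.card_congr (Sylow.equiv P S).toEquiv).trans h8)
  obtain ⟨Q, hQ, hone⟩ := quotient_klein R hRsq hR8 hzc hz2 hnc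
  cases nonempty_fintype (↥(centralizer ({t} : Set X)) ⧸ zpowers z)
  obtain ⟨A, B, hint, hsum, hind⟩ := klein_functions hM Q hQ hone
  obtain ⟨hfac, hdouble⟩ := central_block hM R hRsq hzc hz2
  have hreg : ∀ y : ↥(centralizer ({t} : Set X)), ¬ 2 ∣ orderOf y →
      ¬ 2 ∣ orderOf (y : ↥(centralizer ({t} : Set X)) ⧸ zpowers z) := fun y hy h =>
    hy (h.trans (orderOf_map_dvd (QuotientGroup.mk' (zpowers z)) y))
  refine ⟨fun y => A y, fun y => B y, ?_, ?_, ?_⟩
  · intro χ hχ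
    have hcoef : ∀ ξ ∈ pb M ↥(centralizer ({t} : Set X)), ∃ a b c : ℤ, ∀ y, ¬ 2 ∣ orderOf y →
        classInner (fun c : ↥(centralizer ({t} : Set X)) => (χ : X → ℂ) (t * (c : X))) (ξ : ↥(centralizer ({t} : Set X)) → ℂ) *
          (ξ : ↥(centralizer ({t} : Set X)) → ℂ) y =
          a + b * A (y : _ ⧸ zpowers z) + c * B (y : _ ⧸ zpowers z) := by
      intro ξ hξ
      obtain ⟨ψ, hψ, e, he, hval⟩ := hfac ξ hξ
      obtain ⟨a, b, c, habc⟩ := hint ψ hψ
      obtain ⟨r, hr⟩ := IsGenChar.classInner_int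
        (IsGenChar.of_isCharacter (IsChar.comp (centralizer ({t} : Set X)).subtype (irr_isChar χ)))
        (IsGenChar.of_isCharacter (irr_isChar ξ))
      have hci : classInner (fun c : ↥(centralizer ({t} : Set X)) => (χ : X → ℂ) (t * (c : X))) (ξ : ↥(centralizer ({t} : Set X)) → ℂ) =
          ((e * r : ℤ) : ℂ) := by
        push_cast
        rw [← hr]
        simp only [classInner, Subgroup.coe_subtype]
        rw [mul_left_comm]
        congr 1
        rw [← Equiv.sum_comp (Equiv.mulLeft z)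
          (fun c : ↥(centralizer ({t} : Set X)) => (χ : X → ℂ) (c : X) * conj ((ξ : ↥(centralizer ({t} : Set X)) → ℂ) c)), Finset.mul_sum]
        have hee : (e : ℂ) * e = 1 := by
          have h1 := he z
          rw [show z * z = 1 by rw [← pow_two]; exact orderOf_dvd_iff_pow_eq_one.1 hz2.dvd] at h1
          have h2 := he 1
          rw [mul_one] at h2
          rw [h2, ← mul_assoc] at h1
          exact (mul_eq_right₀ (irr_one_ne_zero ξ)).1 h1.symm
        refine Finset.sum_congr rfl fun c _ => ?_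
        rw [Equiv.coe_mulLeft, he, Subgroup.coe_mul, map_mul, map_intCast, show (z : X) = t from rfl]
        linear_combination -((χ : X → ℂ) (t * (c : X)) * conj ((ξ : _ → ℂ) c)) * hee
      refine ⟨e * r * a, e * r * b, e * r * c, fun y hy => ?_⟩
      rw [hci, hval y hy, habc _ (hreg y hy)]
      push_cast; ring
    choose! a b c habc using hcoef
    refine ⟨∑ ξ ∈ pb M _, a ξ, ∑ ξ ∈ pb M _, b ξ, ∑ ξ ∈ pb M _, c ξ, fun y hy => ?_⟩
    have h1 := section_principal_part hM hz hy χ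
    rw [if_pos (mem_pb.1 hχ)] at h1
    rw [← h1]
    push_cast
    rw [Finset.sum_mul, Finset.sum_mul, ← Finset.sum_add_distrib, ← Finset.sum_add_distrib]
    exact Finset.sum_congr (by ext ξ; simp [mem_pb]) fun ξ hξ => habc ξ hξ y hy
  · intro y y' hy hy'
    have h1 := ElemEight.principal_column_pair (M := M) hM hz hy hy'
    rw [finsum_pb, finsum_pb] at h1
    rw [h1, hdouble y y' hy hy', hsum _ _ (hreg y hy) (hreg y' hy')]
  · intro a b c habc
    refine hind a b c fun q hq => ?_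
    obtain ⟨y, rfl, hy⟩ := exists_regular_lift (p := 2) (zpowers z) hq
    exact habc y hy

/-- No constant difference. -/
theorem no_eight (hM : IsPModular 2 M) {n : ℕ} (hn0 : 0 < n) (h : CD M u (n : ℂ))
    (hut : IsPPart 2 u t) (ht : orderOf t = 2)
    (hall : ∀ v : X, (∃ j : ℕ, orderOf v = 2 ^ j) → v ≠ 1 → IsConj t v)
    (S : Sylow 2 X) (h8 : Nat.card (S : Subgroup X) = 8)
    (hnc : ¬ Cfsg.HasNormalPComplement 2 ↥(centralizer ({t} : Set X))) : False := by
  classical
  haveI : Fact (Nat.Prime 2) := ⟨Nat.prime_two⟩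
  obtain ⟨A, B, hint, hker, hind⟩ := section_functions hM ht S hall h8 hnc
  choose! a b c habc using hint
  obtain ⟨s, hus, hcomm, -, hs⟩ := hut
  set sC : ↥(centralizer ({t} : Set X)) := ⟨s, mem_centralizer_singleton_iff.2 hcomm.eq.symm⟩ with hsC
  have hs' : ¬ 2 ∣ orderOf sC := by rwa [← Subgroup.orderOf_coe]
  have hu : ∀ χ ∈ pb M X, (χ : X → ℂ) u = a χ + b χ * A sC + c χ * B sC := fun χ hχ => by
    rw [← hus]; exact habc χ hχ sC hs'
  have hindC : ∀ p q r : ℂ, (∀ y : ↥(centralizer ({t} : Set X)), ¬ 2 ∣ orderOf y → p + q * conj (A y) + r * conj (B y) = 0) →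
      p = 0 ∧ q = 0 ∧ r = 0 := by
    intro p q r hpqr
    have h1 := hind (conj p) (conj q) (conj r) fun y hy => by
      have := congrArg conj (hpqr y hy)
      simpa using this
    simpa using h1
  -- the Gram matrix
  have hgram : ∀ f : IrrCharacter X → ℤ, ∀ p q r : ℂ,
      (∀ y' : ↥(centralizer ({t} : Set X)), ¬ 2 ∣ orderOf y' → ∑ χ ∈ pb M X, (f χ : ℂ) * conj ((χ : X → ℂ) (t * (y' : X))) =
        p + q * conj (A y') + r * conj (B y')) →
      ∑ χ ∈ pb M X, (f χ : ℂ) * a χ = p ∧ ∑ χ ∈ pb M X, (f χ : ℂ) * b χ = q ∧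
        ∑ χ ∈ pb M X, (f χ : ℂ) * c χ = r := by
    intro f p q r hf
    have h1 := hindC (∑ χ ∈ pb M X, (f χ : ℂ) * a χ - p) (∑ χ ∈ pb M X, (f χ : ℂ) * b χ - q)
      (∑ χ ∈ pb M X, (f χ : ℂ) * c χ - r) fun y' hy' => by
        have h2 := hf y' hy'
        rw [Finset.sum_congr rfl (g := fun χ : IrrCharacter X => (f χ : ℂ) * a χ +
          (f χ : ℂ) * b χ * conj (A y') + (f χ : ℂ) * c χ * conj (B y')) fun χ hχ => by
            rw [habc χ hχ y' hy', map_add, map_add, map_mul, map_mul, map_intCast, map_intCast, map_intCast]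
            ring, Finset.sum_add_distrib, Finset.sum_add_distrib, ← Finset.sum_mul, ← Finset.sum_mul] at h2
        linear_combination h2
    exact ⟨sub_eq_zero.1 h1.1, sub_eq_zero.1 h1.2.1, sub_eq_zero.1 h1.2.2⟩
  have hrow : ∀ y' : ↥(centralizer ({t} : Set X)), ¬ 2 ∣ orderOf y' →
      ∑ χ ∈ pb M X, (a χ : ℂ) * conj ((χ : X → ℂ) (t * (y' : X))) = 4 + 2 * conj (A y') + 2 * conj (B y') ∧
      ∑ χ ∈ pb M X, (b χ : ℂ) * conj ((χ : X → ℂ) (t * (y' : X))) = 2 + 4 * conj (A y') + 2 * conj (B y') ∧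
      ∑ χ ∈ pb M X, (c χ : ℂ) * conj ((χ : X → ℂ) (t * (y' : X))) = 2 + 2 * conj (A y') + 4 * conj (B y') := by
    intro y' hy'
    set G1 := ∑ χ ∈ pb M X, (a χ : ℂ) * conj ((χ : X → ℂ) (t * (y' : X)))
    set G2 := ∑ χ ∈ pb M X, (b χ : ℂ) * conj ((χ : X → ℂ) (t * (y' : X)))
    set G3 := ∑ χ ∈ pb M X, (c χ : ℂ) * conj ((χ : X → ℂ) (t * (y' : X)))
    have h1 := hind (G1 - (4 + 2 * conj (A y') + 2 * conj (B y')))
      (G2 - (2 + 4 * conj (A y') + 2 * conj (B y'))) (G3 - (2 + 2 * conj (A y') + 4 * conj (B y')))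
      fun y hy => by
        have h2 := hker y y' hy hy'
        rw [Finset.sum_congr rfl (g := fun χ : IrrCharacter X =>
          (a χ : ℂ) * conj ((χ : X → ℂ) (t * (y' : X))) + (b χ : ℂ) * conj ((χ : X → ℂ) (t * (y' : X))) * A y +
            (c χ : ℂ) * conj ((χ : X → ℂ) (t * (y' : X))) * B y) fun χ hχ => by
            rw [habc χ hχ y hy]; ring,
          Finset.sum_add_distrib, Finset.sum_add_distrib, ← Finset.sum_mul, ← Finset.sum_mul] at h2
        linear_combination h2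
    exact ⟨sub_eq_zero.1 h1.1, sub_eq_zero.1 h1.2.1, sub_eq_zero.1 h1.2.2⟩
  obtain ⟨g11, g12, g13⟩ := hgram a _ _ _ fun y' hy' => (hrow y' hy').1
  obtain ⟨-, g22, g23⟩ := hgram b _ _ _ fun y' hy' => (hrow y' hy').2.1
  obtain ⟨-, -, g33⟩ := hgram c _ _ _ fun y' hy' => (hrow y' hy').2.2
  obtain ⟨ha1, hb1, hc1⟩ := hind ((a (trivialIrr X) : ℂ) - 1) (b (trivialIrr X)) (c (trivialIrr X))
    fun y hy => by
      have h1 := habc _ (mem_pb.2 (trivial_mem_principalBlock hM)) y hy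
      rw [triv_apply] at h1
      linear_combination -h1
  replace ha1 : a (trivialIrr X) = 1 := by exact_mod_cast sub_eq_zero.1 ha1
  replace hb1 : b (trivialIrr X) = 0 := by exact_mod_cast hb1
  replace hc1 : c (trivialIrr X) = 0 := by exact_mod_cast hc1
  rw [sum_pb hM, ha1] at g11
  rw [sum_pb hM, ha1, hb1] at g12
  rw [sum_pb hM, ha1, hc1] at g13
  rw [sum_pb hM, hb1] at g22
  rw [sum_pb hM, hb1, hc1] at g23
  rw [sum_pb hM, hc1] at g33
  -- the degrees
  have hreal : ∀ χ ∈ pb M X, conj ((χ : X → ℂ) u) = (χ : X → ℂ) u := fun χ hχ => conj_value hM h hχ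
  set D1 : ℤ := ∑ χ ∈ nt M X, a χ with hD1
  set D2 : ℤ := ∑ χ ∈ nt M X, b χ with hD2
  set D3 : ℤ := ∑ χ ∈ nt M X, c χ with hD3
  set x := conj (A sC) with hx
  set w := conj (B sC) with hw
  obtain ⟨e1, e2, e3⟩ := hind ((n : ℂ) * D1 + 2 * (2 + x + w)) ((n : ℂ) * D2 + 2 * (1 + 2 * x + w))
    ((n : ℂ) * D3 + 2 * (1 + x + 2 * w)) fun y hy => by
      have hord : 2 ∣ orderOf (t * (y : X)) := by
        rw [(show Commute t (y : X) from (mem_centralizer_singleton_iff.1 y.2).symm).orderOf_mul_eq_mul_orderOf_of_coprime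
          (by rw [ht, Subgroup.orderOf_coe]; exact Nat.prime_two.coprime_iff_not_dvd.2 hy), ht]
        exact dvd_mul_right 2 _
      have h1 := col_one hM hord
      have h2 := hker y sC hy hs'
      rw [show t * (sC : X) = u from hus, ← hx, ← hw] at h2
      rw [Finset.sum_congr rfl (g := fun χ : IrrCharacter X => (χ : X → ℂ) (t * (y : X)) * (χ : X → ℂ) u)
        fun χ hχ => by rw [hreal χ hχ]] at h2
      rw [sum_pb hM, triv_apply, triv_apply, one_mul, Finset.sum_congr rfl (g := fun χ : IrrCharacter X =>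
        (n : ℂ) * (χ : X → ℂ) (t * (y : X)) + (χ : X → ℂ) (t * (y : X)) * (χ : X → ℂ) u)
          fun χ hχ => by rw [← h χ hχ]; ring, Finset.sum_add_distrib, ← Finset.mul_sum] at h1
      rw [sum_pb hM, triv_apply, triv_apply, one_mul] at h2
      rw [Finset.sum_congr rfl (g := fun χ : IrrCharacter X => (a χ : ℂ) + b χ * A y + c χ * B y)
        fun χ hχ => habc χ (mem_pb.2 (mem_nt.1 hχ).1) y hy, Finset.sum_add_distrib, Finset.sum_add_distrib,
        ← Finset.sum_mul, ← Finset.sum_mul] at h1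
      rw [hD1, hD2, hD3]; push_cast
      linear_combination h1 - h2
  have key : (n : ℤ) * (D2 + D3 - 3 * D1) = 8 := by
    have : ((n : ℂ) * ((D2 : ℂ) + D3 - 3 * D1)) = 8 := by linear_combination e2 + e3 - 3 * e1
    exact_mod_cast this
  have s11 : ∑ χ ∈ nt M X, a χ ^ 2 = 3 := by
    have : ((∑ χ ∈ nt M X, a χ ^ 2 : ℤ) : ℂ) = ((3 : ℤ) : ℂ) := by
      push_cast; simp only [pow_two]; linear_combination g11
    exact Int.cast_injective this
  have s22 : ∑ χ ∈ nt M X, b χ ^ 2 = 4 := by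
    have : ((∑ χ ∈ nt M X, b χ ^ 2 : ℤ) : ℂ) = ((4 : ℤ) : ℂ) := by
      push_cast; simp only [pow_two]; linear_combination g22
    exact Int.cast_injective this
  have s33 : ∑ χ ∈ nt M X, c χ ^ 2 = 4 := by
    have : ((∑ χ ∈ nt M X, c χ ^ 2 : ℤ) : ℂ) = ((4 : ℤ) : ℂ) := by
      push_cast; simp only [pow_two]; linear_combination g33
    exact Int.cast_injective this
  have s12 : ∑ χ ∈ nt M X, a χ * b χ = 2 := by
    have : ((∑ χ ∈ nt M X, a χ * b χ : ℤ) : ℂ) = ((2 : ℤ) : ℂ) := by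
      push_cast; linear_combination g12
    exact Int.cast_injective this
  have s13 : ∑ χ ∈ nt M X, a χ * c χ = 2 := by
    have : ((∑ χ ∈ nt M X, a χ * c χ : ℤ) : ℂ) = ((2 : ℤ) : ℂ) := by
      push_cast; linear_combination g13
    exact Int.cast_injective this
  have s23 : ∑ χ ∈ nt M X, b χ * c χ = 2 := by
    have : ((∑ χ ∈ nt M X, b χ * c χ : ℤ) : ℂ) = ((2 : ℤ) : ℂ) := by
      push_cast; linear_combination g23
    exact Int.cast_injective this
  have hodd : Odd (D2 + D3 - 3 * D1) := by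
    obtain ⟨p1, q1⟩ := sum_parity (nt M X) a
    obtain ⟨p2, q2⟩ := sum_parity (nt M X) b
    obtain ⟨p3, q3⟩ := sum_parity (nt M X) c
    rw [s11, ← hD1] at q1
    rw [s22, ← hD2] at q2
    rw [s33, ← hD3] at q3
    rw [Int.odd_iff]
    omega
  have hm1 : D2 + D3 - 3 * D1 = 1 := by
    set m := D2 + D3 - 3 * D1
    have hpos : 0 < m := pos_of_mul_pos_right (by omega : 0 < (n : ℤ) * m) (Int.natCast_nonneg n)
    have hle : m ≤ 8 := key ▸ le_mul_of_one_le_left hpos.le (by omega : (1 : ℤ) ≤ n)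
    have hdiv : m ∣ 8 := ⟨n, by rw [← key]; ring⟩
    interval_cases m <;> first
      | rfl
      | exact absurd hodd (by decide)
      | exact absurd hdiv (by decide)
  have hn8 : n = 8 := by rw [hm1, mul_one] at key; exact_mod_cast key
  subst hn8
  refine no_rows (nt M X) a b c s11 s22 s33 s12 s13 s23 (by rw [← hD1, ← hD2, ← hD3]; linarith) ?_
  intro χ hχ
  rw [← hD2, ← hD3]
  have hχ' : χ ∈ pb M X := mem_pb.2 (mem_nt.1 hχ).1
  have h3 : (3 : ℂ) * (χ : X → ℂ) u = ((rowValue D2 D3 (a χ) (b χ) (c χ) : ℤ) : ℂ) := by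
    rw [← hreal χ hχ', hu χ hχ', map_add, map_add, map_mul, map_mul, map_intCast, map_intCast, map_intCast,
      ← hx, ← hw, rowValue]
    push_cast at e2 e3 ⊢
    linear_combination (b χ : ℂ) * (e2 - e3 / 2) + (c χ : ℂ) * (e3 - e2 / 2)
  set r := rowValue D2 D3 (a χ) (b χ) (c χ)
  have hdeg : (3 : ℂ) * (χ : X → ℂ) 1 = ((24 + r : ℤ) : ℂ) := by
    have := h χ hχ
    push_cast at this ⊢
    linear_combination 3 * this + h3
  have hn := IsChar.norm_le (irr_isChar χ) u
  have hn3 : ‖(3 : ℂ) * (χ : X → ℂ) u‖ ≤ ‖(3 : ℂ) * (χ : X → ℂ) 1‖ := by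
    rw [norm_mul, norm_mul]; exact mul_le_mul_of_nonneg_left hn (norm_nonneg _)
  rw [h3, hdeg, Complex.norm_intCast, Complex.norm_intCast] at hn3
  have hn4 : |r| ≤ |24 + r| := by exact_mod_cast hn3
  rw [abs_le] at hn4
  rcases le_total 0 (24 + r) with h0 | h0
  · rw [abs_of_nonneg h0] at hn4; omega
  · have hp : (0 : ℤ) ≤ 24 + r := by
      have h5 : (3 : ℂ) * (charDegree (χ : X → ℂ) : ℂ) = ((24 + r : ℤ) : ℂ) := by rw [← charDeg_spec' χ]; exact hdeg
      have : (3 : ℤ) * (charDegree (χ : X → ℂ) : ℤ) = 24 + r := by exact_mod_cast h5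
      omega
    rw [abs_of_nonneg hp] at hn4; omega

end Cfsg.Agent.Block.ConstDiff
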