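import Cfsg.Agent.Lib.Block.ConstDiff.Structure
import Cfsg.Agent.Lib.Block.KleinFour
import Cfsg.Agent.Lib.Block.SectionRegular
import Cfsg.Agent.Lib.Block.SL2Char.PSLDegrees
import Cfsg.Agent.Lib.Invol.GW.Consumers.AbelianSylow
import Cfsg.Agent.Lib.Invol.GW.Dihedral.ThreeDoneFinal
import Cfsg.Agent.Lib.Fus.SmallSimple
import Cfsg.Agent.Lib.Char.Kernel

/-!
A constant difference with a four group as Sylow subgroup: a character of degree three, hence
`SL₂(4)`.
-/

open scoped ComplexConjugate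

set_option autoImplicit false
set_option linter.unusedSectionVars false
set_option linter.style.haveILetI false

namespace Cfsg.Agent.Block.ConstDiff

open Cfsg Cfsg.Agent.Char Subgroup

universe u

variable {X : Type u} [Group X] [Fintype X] {M : Ideal AlgInt} {u t : X}

theorem four_dvd_diff (hall : ∀ v : X, (∃ j : ℕ, orderOf v = 2 ^ j) → v ≠ 1 → IsConj t v)
    (S : Sylow 2 X) (hS : Nat.card (S : Subgroup X) = 4) (χ : IrrCharacter X) {m : ℤ}
    (hm : (χ : X → ℂ) t = m) : (4 : ℤ) ∣ (charDegree (χ : X → ℂ) : ℤ) - m := by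
  classical
  obtain ⟨a, ha⟩ := IsGenChar.classInner_int
    (IsGenChar.of_isCharacter (IsChar.comp (S : Subgroup X).subtype (irr_isChar χ)))
    (IsGenChar.of_isCharacter (IsIrr.isCharacter (isIrr_one (G := (S : Subgroup X)))))
  have hsum : (4 : ℂ) * a = (charDegree (χ : X → ℂ) : ℂ) + 3 * m := by
    rw [← ha, classInner, hS, Nat.cast_ofNat, ← mul_assoc, mul_inv_cancel₀ (by norm_num), one_mul,
      ← Finset.add_sum_erase _ _ (Finset.mem_univ (1 : (S : Subgroup X)))]
    simp only [map_one, mul_one, Subgroup.coe_subtype, Subgroup.coe_one]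
    rw [charDeg_spec' χ, Finset.sum_congr rfl (g := fun _ => (m : ℂ)) (fun c hc => by
        have hc1 : (c : X) ≠ 1 := fun e => Finset.ne_of_mem_erase hc (Subtype.ext e)
        obtain ⟨j, hj⟩ := IsPGroup.iff_orderOf.1 S.isPGroup' c
        rw [← Subgroup.orderOf_coe] at hj
        rw [← IsClass.eq_of_isConj (irr_classFun χ) (hall (c : X) ⟨j, hj⟩ hc1), hm]),
      Finset.sum_const, Finset.card_erase_of_mem (Finset.mem_univ _), Finset.card_univ,
      ← Nat.card_eq_fintype_card, hS, nsmul_eq_mul]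
    norm_num
  have h4 : (4 : ℤ) * a = (charDegree (χ : X → ℂ) : ℤ) + 3 * m := by exact_mod_cast hsum
  exact ⟨a - m, by linarith⟩

/-- Some non-principal character has degree three and value `-1` at `t`. -/
theorem exists_degree_three (hM : IsPModular 2 M) {n : ℕ} (hn0 : 0 < n) (h : CD M u (n : ℂ))
    (hodd : Odd (∑ χ ∈ nt M X, charDegree (χ : X → ℂ)))
    (hut : IsPPart 2 u t) (ht : orderOf t = 2)
    (hall : ∀ v : X, (∃ j : ℕ, orderOf v = 2 ^ j) → v ≠ 1 → IsConj t v)
    (S : Sylow 2 X) (hS : Nat.card (S : Subgroup X) = 4) :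
    ∃ χ : IrrCharacter X, (χ : X → ℂ) 1 = 3 ∧ (χ : X → ℂ) t = -1 := by
  classical
  haveI : Fact (Nat.Prime 2) := ⟨Nat.prime_two⟩
  have ht1 : t ≠ 1 := fun e => by rw [e, orderOf_one] at ht; omega
  have htt : t * t = 1 := by rw [← pow_two]; exact orderOf_dvd_iff_pow_eq_one.1 ht.dvd
  obtain ⟨P, hP⟩ := (IsPGroup.of_card (p := 2) (n := 1)
    (show Nat.card (zpowers t) = 2 ^ 1 by rw [Nat.card_zpowers, ht, pow_one])).exists_le_sylow
  have hPc : Nat.card (P : Subgroup X) = 4 := (Nat.card_congr (Sylow.equiv P S).toEquiv).trans hS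
  haveI hnt : Nontrivial (P : Subgroup X) := Finite.one_lt_card_iff_nontrivial.1 (by omega)
  have hK4 : IsKleinFour (P : Subgroup X) := ⟨hPc,
    (Monoid.exponent_eq_prime_iff Nat.prime_two).2 fun g hg => orderOf_eq_prime
      (Subtype.ext (by rw [Subgroup.coe_pow, pow_two]; exact sylow_sq hall ht P g.2)) hg⟩
  obtain ⟨K, hKn, hK, hidx⟩ :=
    Block.klein_centralizer_complement P hK4 (hP (mem_zpowers t)) ht1
  have hz : ∃ j : ℕ, orderOf t = 2 ^ j := ⟨1, by rw [ht, pow_one]⟩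
  obtain ⟨s, hus, hcomm, -, hs⟩ := hut
  set sC : (centralizer ({t} : Set X)) := ⟨s, mem_centralizer_singleton_iff.2 hcomm.eq.symm⟩ with hsC
  have hs' : ¬ 2 ∣ orderOf sC := by rwa [← Subgroup.orderOf_coe]
  have hval : ∀ χ ∈ pb M X, (χ : X → ℂ) u = (χ : X → ℂ) t := by
    intro χ hχ
    have h1 := Block.section_mul_const hM hz hK (mem_pb.1 hχ) (v := (1 : (centralizer ({t} : Set X)))) (l := sC)
      (by rw [orderOf_one]; norm_num) (by rw [one_mul]; exact hs')
      (Block.regular_mem_of_index_pPow hidx hs')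
    rw [one_mul, Subgroup.coe_one, mul_one, show ((sC : (centralizer ({t} : Set X))) : X) = s from rfl, hus] at h1
    exact h1
  choose m hm using fun χ : IrrCharacter X => Block.char_involution_int χ htt
  have hm1 : m (trivialIrr X) = 1 := by
    have := hm (trivialIrr X); rw [triv_apply] at this; exact_mod_cast this.symm
  have hsq : ∑ χ ∈ nt M X, m χ ^ 2 = 3 := by
    have h1 := Block.principal_column (M := M) hM hz (y := (1 : (centralizer ({t} : Set X)))) (by simp)
    have h2 := Block.principal_column_complement hM hK hidx (y := (1 : (centralizer ({t} : Set X)))) (by simp)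
    rw [h2] at h1
    have hC4 : (Nat.card (centralizer ({t} : Set X))).factorization 2 = 2 := by
      rw [← K.card_mul_index, hidx, Nat.factorization_mul Nat.card_pos.ne' (by norm_num),
        Finsupp.add_apply, Nat.factorization_eq_zero_of_not_dvd hK,
        Nat.Prime.factorization_pow Nat.prime_two, Finsupp.single_eq_same, zero_add]
    rw [hC4, finsum_pb] at h1
    simp only [Subgroup.coe_one, mul_one, hm, map_intCast] at h1
    rw [sum_pb hM, hm1] at h1
    have h3 : ((1 + ∑ χ ∈ nt M X, m χ * m χ : ℤ) : ℂ) = ((4 : ℤ) : ℂ) := by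
      push_cast; push_cast at h1; linear_combination h1
    have h4 : (1 + ∑ χ ∈ nt M X, m χ * m χ : ℤ) = 4 := Int.cast_injective h3
    simp only [pow_two]; linarith
  have hdeg : ∀ χ ∈ nt M X, (charDegree (χ : X → ℂ) : ℤ) = n + m χ := fun χ hχ => by
    have h1 := h χ hχ
    rw [hval χ (mem_pb.2 (mem_nt.1 hχ).1), hm, charDeg_spec' χ, sub_eq_iff_eq_add] at h1
    exact_mod_cast h1
  have horth : (1 : ℤ) + ∑ χ ∈ nt M X, ((n : ℤ) + m χ) * m χ = 0 := by
    have h1 := col_one hM (v := t) (ht ▸ dvd_rfl)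
    rw [sum_pb hM, triv_apply, triv_apply, one_mul,
      Finset.sum_congr rfl (g := fun χ : IrrCharacter X => (((charDegree (χ : X → ℂ) : ℤ) * m χ : ℤ) : ℂ))
        (fun χ _ => by rw [charDeg_spec' χ, hm]; push_cast; ring), ← Int.cast_sum] at h1
    have e : ∑ χ ∈ nt M X, ((n : ℤ) + m χ) * m χ =
        ∑ χ ∈ nt M X, (charDegree (χ : X → ℂ) : ℤ) * m χ :=
      Finset.sum_congr rfl fun χ hχ => by rw [hdeg χ hχ]
    rw [e]
    exact_mod_cast h1
  have hD : (n : ℤ) * ∑ χ ∈ nt M X, m χ = -4 := by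
    rw [Finset.sum_congr rfl fun χ _ => show ((n : ℤ) + m χ) * m χ = (n : ℤ) * m χ + m χ ^ 2 by ring,
      Finset.sum_add_distrib, ← Finset.mul_sum, hsq] at horth
    linarith
  obtain ⟨χ₀, hχ₀⟩ : (nt M X).Nonempty := Finset.nonempty_iff_ne_empty.2 fun e => by
    rw [e, Finset.sum_empty] at hodd; exact absurd hodd (by decide)
  have h4n : (4 : ℤ) ∣ n := by
    have := four_dvd_diff hall S hS χ₀ (hm χ₀)
    rwa [hdeg χ₀ hχ₀, add_sub_cancel_right] at this
  have hn4 : n = 4 := by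
    have h1 : (n : ℤ) ∣ 4 := ⟨-(∑ χ ∈ nt M X, m χ), by rw [mul_neg, hD]; ring⟩
    exact Nat.dvd_antisymm (by exact_mod_cast h1) (by exact_mod_cast h4n)
  subst hn4
  have hD1 : ∑ χ ∈ nt M X, m χ = -1 := by push_cast at hD; linarith
  obtain ⟨χ, hχ, hlt⟩ : ∃ χ ∈ nt M X, m χ < 0 := by
    by_contra hno
    push Not at hno
    have := Finset.sum_nonneg hno
    omega
  have hle : m χ ^ 2 ≤ 3 := hsq ▸ Finset.single_le_sum (fun ψ _ => sq_nonneg (m ψ)) hχ
  have hmχ : m χ = -1 := by nlinarith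
  refine ⟨χ, ?_, by rw [hm, hmχ]; norm_num⟩
  have := hdeg χ hχ
  rw [hmχ] at this
  rw [charDeg_spec' χ]
  exact_mod_cast (show (charDegree (χ : X → ℂ) : ℤ) = 3 by rw [this]; norm_num)

/-- A four group as Sylow subgroup gives `PSL₂(4)`. -/
theorem psl_four (hM : IsPModular 2 M) {n : ℕ} (hn0 : 0 < n) (h : CD M u (n : ℂ))
    (hodd : Odd (∑ χ ∈ nt M X, charDegree (χ : X → ℂ)))
    (hut : IsPPart 2 u t) (ht : orderOf t = 2)
    (hall : ∀ v : X, (∃ j : ℕ, orderOf v = 2 ^ j) → v ≠ 1 → IsConj t v)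
    {T : Subgroup X} [T.Normal] [IsSimpleGroup T] (hTc : ¬ IsMulCommutative T)
    (hinv : ∀ v : X, orderOf v = 2 → v ∈ T)
    (S : Sylow 2 X) (hST : (S : Subgroup X) ≤ T) (hS : Nat.card (S : Subgroup X) = 4) :
    ∃ (F : Type) (_ : Field F) (_ : Fintype F) (m : ℕ), 2 ≤ m ∧ Fintype.card F = 2 ^ m ∧
      Nonempty (T ≃* Matrix.ProjectiveSpecialLinearGroup (Fin 2) F) := by
  classical
  haveI : Fact (Nat.Prime 2) := ⟨Nat.prime_two⟩
  let E : Sylow 2 T := S.subtype hST
  have hEc : Nat.card (E : Subgroup T) = 4 :=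
    (Nat.card_congr (subgroupOfEquivOfLe hST).toEquiv).trans hS
  have hEa : IsMulCommutative (E : Subgroup T) := ⟨⟨fun a b => Subtype.ext (Subtype.ext
    (sylow_comm hall ht S a.2 b.2))⟩⟩
  have heven : Even (Nat.card T) := even_iff_two_dvd.2
    ((show 2 ∣ Nat.card (E : Subgroup T) by rw [hEc]; norm_num).trans (card_subgroup_dvd_card _))
  have hrank : Cfsg.PRankLE 2 2 (E : Subgroup T) := fun A _ _ =>
    (Subgroup.card_le_card_group A).trans hEc.le
  obtain ⟨F, i1, i2, hF, ⟨e⟩⟩ :=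
    Invol.GW.simple_small_rank Invol.GW.Dihedral.gwStatement_holds hTc heven E hEa hrank
  rcases hF with ⟨hq8, hq5⟩ | ⟨m, hm, hq⟩
  swap
  · exact ⟨F, i1, i2, m, hm, hq, ⟨e⟩⟩
  obtain ⟨χ, hχ1, hχt⟩ := exists_degree_three hM hn0 h hodd hut ht hall S hS
  obtain ⟨φ, hφ, hφt⟩ := exists_nonprincipal_constituent (IsChar.comp T.subtype (irr_isChar χ))
    (g := ⟨t, hinv t ht⟩) (by
      simp only [Subgroup.coe_subtype, Subgroup.coe_one, hχ1, hχt]; norm_num)
  obtain ⟨d, hd, hok⟩ := SL2Char.okDeg_PS (IsIrr.comp_mulEquiv e.symm φ.2)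
  simp only [map_one] at hd
  have hd3 : d ≤ 3 := degree_le_of_constituent (IsChar.comp T.subtype (irr_isChar χ)) φ.2 hφ
    (m := 3) (by simp only [Subgroup.coe_subtype, Subgroup.coe_one, hχ1]; norm_num) hd
  have hd1 : d ≠ 1 := by
    rintro rfl
    obtain ⟨l, hl⟩ := linearHom_of_isCharacter (IsIrr.isCharacter φ.2) (by rw [hd, Nat.cast_one])
    refine hφt ?_
    rcases (inferInstance : l.ker.Normal).eq_bot_or_eq_top with hk | hk
    · refine absurd ⟨⟨fun a b => MonoidHom.ker_eq_bot_iff l |>.1 hk ?_⟩⟩ hTc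
      rw [map_mul, map_mul, mul_comm]
    · simp only [hl, MonoidHom.mem_ker.1 (hk ▸ mem_top (⟨t, hinv t ht⟩ : T)), map_one]
  have hq : Fintype.card F = 5 := by
    rcases hok with h1 | h1 | h1 | h1 | ⟨h1, -⟩ | ⟨h1, -⟩ <;> omega
  have hc : Nat.card T = 60 := by
    have h2 := Invol.GW.Klein.PSL.card_mul (F := F) (by rw [hq]; decide)
    rw [← Nat.card_congr e.toEquiv, hq] at h2
    omega
  letI : Fintype (GaloisField 2 2) := Fintype.ofFinite _
  have hF4 : Fintype.card (GaloisField 2 2) = 2 ^ 2 := by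
    rw [← Nat.card_eq_fintype_card, GaloisField.card 2 2 (by norm_num)]
  haveI : IsSimpleGroup (Matrix.ProjectiveSpecialLinearGroup (Fin 2) (GaloisField 2 2)) :=
    Classical.PSL_isSimple le_rfl fun _ => by rw [hF4]; norm_num
  obtain ⟨a⟩ := Fus.alternating_five_of_card (G := T) hc
  obtain ⟨b⟩ := Fus.alternating_five_of_card
    (G := Matrix.ProjectiveSpecialLinearGroup (Fin 2) (GaloisField 2 2))
    (by rw [Invol.GW.HallNumbers.card_psl_two_pow (by rw [hF4]; decide), hF4]; norm_num)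
  exact ⟨GaloisField 2 2, inferInstance, inferInstance, 2, le_rfl, hF4, ⟨a.trans b.symm⟩⟩

end Cfsg.Agent.Block.ConstDiff
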