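import Cfsg.Agent.Lib.Invol.AbelTwo.Walter
import Cfsg.Agent.Lib.Invol.CentInt.CoverDerived
import Cfsg.Agent.Lib.Invol.GW.Consumers.AbelianSylow

/-!
Weak Walter for a Sylow `2`-subgroup of order at least eight: `SL₂(2ⁿ)`, or an involution whose
centralizer has no normal `2`-complement.
-/

set_option autoImplicit false
set_option linter.unusedSectionVars false
set_option linter.style.haveILetI false

namespace Cfsg.Agent.Block.ConstDiff

open Subgroup

universe u

/-- A Bender group with abelian Sylow `2`-subgroups is `PSL₂(2ⁿ)`. -/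
theorem psl_of_abelian_bender {T : Type u} [Group T] [Finite T] (h : Invol.CentInt.IsBenderGrp T)
    (S : Sylow 2 T) (hS : IsMulCommutative ↥(S : Subgroup T)) :
    ∃ (F : Type) (_ : Field F) (_ : Fintype F) (m : ℕ), 2 ≤ m ∧ Fintype.card F = 2 ^ m ∧
      Nonempty (T ≃* Matrix.ProjectiveSpecialLinearGroup (Fin 2) F) := by
  classical
  haveI : Fact (Nat.Prime 2) := ⟨Nat.prime_two⟩
  rcases h with ⟨F, i1, i2, hc, h4, ⟨e⟩⟩ | ⟨K, i1, i2, q, hq, h4, hK, ⟨e⟩⟩ | ⟨F, i1, i2, m, hm, hF, ⟨e⟩⟩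
  · haveI := hc
    obtain ⟨n, -, hn⟩ := FiniteField.card F 2
    refine ⟨F, i1, i2, n, ?_, hn, ⟨e.trans (Invol.GW.SLTwoEquivPSL (F := F))⟩⟩
    by_contra hlt
    have := Nat.pow_le_pow_right (show 0 < 2 by norm_num) (show (n : ℕ) ≤ 1 by omega)
    omega
  · exfalso
    obtain ⟨p, hc⟩ := CharP.exists K
    haveI : Fact p.Prime := ⟨CharP.char_is_prime K p⟩
    obtain rfl : p = 2 := Dickson.p_eq_two p (by rw [hK]; exact hq.pow_of_ne_zero two_ne_zero)
    obtain ⟨k, hk⟩ := FiniteField.card K 2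
    obtain ⟨j, -, hj⟩ := (Nat.dvd_prime_pow Nat.prime_two).1
      (show q ∣ 2 ^ (k : ℕ) from hk.2 ▸ hK ▸ dvd_pow_self q two_ne_zero)
    refine Invol.CentInt.psu_sylow_nonabelian hK hj ?_ (S.mapSurjective (f := e.toMonoidHom) e.surjective)
      (Invol.GW.mapSurjective_comm hS e.surjective)
    rcases j with _ | j
    · rw [hj] at h4; norm_num at h4
    · omega
  · exact absurd (Invol.GW.mapSurjective_comm hS (f := e.toMonoidHom) e.surjective)
      (Invol.CentInt.suzuki_sylow_nonabelian hm hF _)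

/-- Weak Walter, in the form used here. -/
theorem walter_large {T : Type u} [Group T] [Finite T] [IsSimpleGroup T] (hT : ¬ IsMulCommutative T)
    (S : Sylow 2 T) (hS : IsMulCommutative ↥(S : Subgroup T)) (h8 : 8 ∣ Nat.card ↥(S : Subgroup T)) :
    (∃ (F : Type) (_ : Field F) (_ : Fintype F) (m : ℕ), 2 ≤ m ∧ Fintype.card F = 2 ^ m ∧
      Nonempty (T ≃* Matrix.ProjectiveSpecialLinearGroup (Fin 2) F)) ∨
    (Nat.card ↥(S : Subgroup T) = 8 ∧ ∀ t ∈ (S : Subgroup T), t ≠ 1 →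
      ∃ N : Subgroup T, N ≤ centralizer ({t} : Set T) ∧ IsSimpleGroup N ∧ ¬ IsMulCommutative N) := by
  haveI : Fact (Nat.Prime 2) := ⟨Nat.prime_two⟩
  have h2 : 2 ∣ Nat.card T := ((dvd_trans (by norm_num) h8).trans (card_subgroup_dvd_card _))
  rcases Invol.AbelTwo.walter T hT h2 S hS with ⟨H, hH⟩ | ⟨F, i1, i2, -, -, hq, ⟨e⟩⟩ | ⟨hS8, -, hshape⟩
  · exact Or.inl (psl_of_abelian_bender (Fus.Gold.bender_of_se hT hH).1 S hS)
  · refine absurd ?_ (Invol.GW.HallNumbers.not_eight_dvd (F := F) hq)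
    exact (Nat.card_congr e.toEquiv) ▸ h8.trans (card_subgroup_dvd_card _)
  · refine Or.inr ⟨hS8, fun t ht ht1 => ?_⟩
    obtain ⟨-, E, hdp, F, i1, i2, hodd, h3, N, -, ⟨e⟩, -⟩ := hshape t ht ht1
    let e' : N ≃* N.map E.subtype := N.equivMapOfInjective E.subtype E.subtype_injective
    haveI : IsSimpleGroup (Matrix.ProjectiveSpecialLinearGroup (Fin 2) F) :=
      Classical.PSL_isSimple le_rfl fun _ => by omega
    haveI : IsSimpleGroup N := e.isSimpleGroup
    refine ⟨N.map E.subtype, ?_, e'.symm.isSimpleGroup, fun hcomm => ?_⟩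
    · rintro _ ⟨x, -, rfl⟩
      exact hdp.2.1 x.2
    · refine Invol.GW.HallNumbers.psl_not_solvable (F := F) (L := N.map E.subtype) (by omega)
        (e'.symm.trans e) (Group.isSolvable_of_comm fun a b => hcomm.is_comm.comm a b)

end Cfsg.Agent.Block.ConstDiff
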