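import Cfsg.Agent.Lib.Block.ConstDiff.Four
import Cfsg.Agent.Lib.Block.ConstDiff.Eight
import Cfsg.Agent.Lib.Block.ConstDiff.Converse
import Cfsg.Agent.Lib.Block.ConstDiff.Walter
import Cfsg.Agent.Lib.Block.PPartDerived

/-!
The elements at which all non-principal characters of the principal `2`-block fall short of their
degrees by a constant.
-/

set_option autoImplicit false
set_option linter.unusedSectionVars false
set_option linter.style.haveILetI false

namespace Cfsg.Agent.Block.ConstDiff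

open Cfsg Cfsg.Agent.Char Subgroup

universe u

variable {M : Ideal AlgInt}

/-- A group with a normal `2`-complement contains no non-abelian simple group. -/
theorem not_complement_of_simple {C : Type u} [Group C] [Finite C] (N : Subgroup C) [IsSimpleGroup N]
    (hN : ¬ IsMulCommutative N) : ¬ Cfsg.HasNormalPComplement 2 C := by
  haveI : Fact (Nat.Prime 2) := ⟨Nat.prime_two⟩
  rintro ⟨P, K, hKn, hK⟩
  haveI := hKn
  haveI : Group.IsSolvable K := Cfsg.Agent.S0205.result (by
    rw [← Nat.not_even_iff_odd, even_iff_two_dvd, ← hK.index_eq_card]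
    exact P.not_dvd_index)
  haveI : Group.IsSolvable (C ⧸ K) := by
    obtain ⟨k, hk⟩ := IsPGroup.iff_card.1 P.isPGroup'
    haveI := (IsPGroup.of_card (p := 2) (n := k) (G := C ⧸ K) (by
      rw [← index_eq_card, hK.symm.index_eq_card, hk])).isNilpotent
    infer_instance
  haveI : Group.IsSolvable C :=
    (Group.isSolvable_iff_subgroup_quotient K).2 ⟨inferInstance, inferInstance⟩
  exact hN ⟨⟨IsSimpleGroup.comm_iff_isSolvable.2
    (Group.isSolvable_of_isSolvable_injective (f := N.subtype) N.subtype_injective)⟩⟩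

/-- The forward direction with trivial core. -/
theorem reduced {X : Type u} [Group X] [Fintype X] (hM : IsPModular 2 M) (hO : Cfsg.oddCore X = ⊥)
    {u : X} (hu : u ≠ 1) {k : ℂ} (h : CD M u k) :
    Nat.card X = 2 ∨ ∃ (F : Type) (_ : Field F) (_ : Fintype F) (m : ℕ), 2 ≤ m ∧
      Fintype.card F = 2 ^ m ∧ Nonempty (X ≃* Matrix.ProjectiveSpecialLinearGroup (Fin 2) F) ∧
      u ^ 2 = 1 := by
  classical
  haveI : Fact (Nat.Prime 2) := ⟨Nat.prime_two⟩
  have hu' : u ∉ Cfsg.oddCore X := by rw [hO, mem_bot]; exact hu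
  obtain ⟨t, s, hts, hcomm, hto, hso, -, -⟩ := exists_pPart_zpowers (p := 2) u
  have hut : IsPPart 2 u t := ⟨s, hts, hcomm, hto, hso⟩
  obtain ⟨ht, hall⟩ := two_part_order hM h hu' hut
  obtain ⟨n, hn0, rfl, hodd⟩ := exists_nat hM h (ne_zero hM h hu') hut ht
  rcases two_or_simple hM hn0 h hO ht hall with h2 | ⟨T, hTn, hTs, hTc, hinv, hcen, hsyl⟩
  · exact Or.inl h2
  right
  haveI := hTn
  haveI := hTs
  obtain ⟨S⟩ : Nonempty (Sylow 2 X) := inferInstance
  obtain ⟨hST, htop⟩ := hsyl S
  let E : Sylow 2 T := S.subtype hST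
  have hEc : Nat.card (E : Subgroup T) = Nat.card (S : Subgroup X) :=
    Nat.card_congr (subgroupOfEquivOfLe hST).toEquiv
  have hEa : IsMulCommutative (E : Subgroup T) := ⟨⟨fun a b => Subtype.ext (Subtype.ext
    (sylow_comm hall ht S a.2 b.2))⟩⟩
  suffices key : ∃ (F : Type) (_ : Field F) (_ : Fintype F) (m : ℕ), 2 ≤ m ∧
      Fintype.card F = 2 ^ m ∧ Nonempty (T ≃* Matrix.ProjectiveSpecialLinearGroup (Fin 2) F) by
    obtain ⟨F, i1, i2, m, hm, hF, ⟨e⟩⟩ := key
    obtain ⟨e', hu2⟩ := eq_psl_two hall ht hcen S hST htop hut hm hF e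
    exact ⟨F, i1, i2, m, hm, hF, e', hu2⟩
  obtain ⟨r, hr⟩ := IsPGroup.iff_card.1 S.isPGroup'
  rcases Nat.lt_or_ge r 3 with hlt | hge
  · have h2T : 2 ∣ Nat.card T := ht ▸ (Subgroup.orderOf_mk t (hinv t ht) ▸
      orderOf_dvd_natCard (⟨t, hinv t ht⟩ : T))
    have h4 : r = 2 := by
      have h2 := E.dvd_card_of_dvd_card h2T
      rw [hEc, hr] at h2
      interval_cases r
      · norm_num at h2
      · exfalso
        haveI : IsCyclic (E : Subgroup T) := isCyclic_of_prime_card (p := 2) (by rw [hEc, hr, pow_one])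
        have hmin : (Nat.card T).minFac = 2 := (Nat.minFac_eq_two_iff _).2 h2T
        have hc := (inferInstance : IsCyclic (E : Subgroup T)).isComplement' hmin
        set N := (MonoidHom.transferSylow E
          ((inferInstance : IsCyclic (E : Subgroup T)).normalizer_le_centralizer hmin)).ker
        rcases (inferInstance : N.Normal).eq_bot_or_eq_top with e | e
        · rw [e] at hc
          have h3 := hc.card_mul
          rw [Subgroup.card_bot, one_mul, hEc, hr, pow_one] at h3
          haveI : IsCyclic T := isCyclic_of_prime_card (p := 2) h3.symm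
          exact hTc ⟨⟨fun a b => (IsCyclic.commGroup (α := T)).mul_comm a b⟩⟩
        · rw [e] at hc
          have h3 := hc.card_mul
          rw [Subgroup.card_top, hEc, hr, pow_one] at h3
          have := Nat.card_pos (α := T)
          omega
      · rfl
    exact psl_four hM hn0 h hodd hut ht hall hTc hinv S hST (by rw [hr, h4]; norm_num)
  · rcases walter_large hTc E hEa (by
      rw [hEc, hr, show (8 : ℕ) = 2 ^ 3 by norm_num]; exact pow_dvd_pow 2 hge) with hp | ⟨h8, hnc⟩
    · exact hp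
    exfalso
    obtain ⟨⟨⟨v, hvT⟩, hvE⟩, hv⟩ :=
      exists_prime_orderOf_dvd_card' (G := (E : Subgroup T)) 2 (by rw [h8]; norm_num)
    rw [Subgroup.orderOf_mk] at hv
    obtain ⟨N, hNle, hNs, hNc⟩ := hnc ⟨v, hvT⟩ hvE (fun e => by rw [e, orderOf_one] at hv; omega)
    rw [Subgroup.orderOf_mk] at hv
    obtain ⟨g, hg⟩ := isConj_iff.1 (hall v ⟨1, by rw [hv, pow_one]⟩
      (fun e => by rw [e, orderOf_one] at hv; omega))
    -- move `N` into the centralizer of `t`
    let f : N →* ↥(centralizer ({t} : Set X)) :=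
      { toFun := fun x => ⟨g⁻¹ * ((x : T) : X) * g, mem_centralizer_singleton_iff.2 (by
          have h1 : ((x : T) : X) * v = v * ((x : T) : X) :=
            congrArg Subtype.val (mem_centralizer_singleton_iff.1 (hNle x.2))
          rw [← hg] at h1
          calc g⁻¹ * ((x : T) : X) * g * t
              = g⁻¹ * (((x : T) : X) * (g * t * g⁻¹)) * g := by group
            _ = g⁻¹ * (g * t * g⁻¹ * ((x : T) : X)) * g := by rw [h1]
            _ = t * (g⁻¹ * ((x : T) : X) * g) := by group)⟩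
        map_one' := Subtype.ext (by simp)
        map_mul' := fun a b => Subtype.ext (by simp [mul_assoc]) }
    have hf : Function.Injective f := fun a b hab => Subtype.ext (Subtype.ext
      (mul_left_cancel (mul_right_cancel (congrArg Subtype.val hab))))
    let eN : N ≃* f.range := MonoidHom.ofInjective hf
    haveI := hNs
    haveI : IsSimpleGroup f.range := eN.symm.isSimpleGroup
    refine no_eight hM hn0 h hut ht hall S (hEc ▸ h8) (not_complement_of_simple f.range fun hc => hNc ?_)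
    exact ⟨⟨fun a b => eN.injective (by rw [map_mul, map_mul]; exact hc.is_comm.comm _ _)⟩⟩

/-- The statement. -/
theorem const_diff_iff {G : Type u} [Group G] [Finite G] (hM : IsPModular 2 M) (u : G) :
    (∃ k : ℂ, ∀ χ : IrrCharacter G, χ ∈ principalBlock M G → (χ : G → ℂ) ≠ (fun _ => 1) →
        (χ : G → ℂ) 1 - (χ : G → ℂ) u = k) ↔
      (u ∈ Cfsg.oddCore G ∨ (Nat.card (G ⧸ Cfsg.oddCore G) = 2 ∧ u ∉ Cfsg.oddCore G) ∨
        (∃ (F : Type) (_ : Field F) (_ : Fintype F) (n : ℕ), 2 ≤ n ∧ Fintype.card F = 2 ^ n ∧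
          Nonempty (G ⧸ Cfsg.oddCore G ≃* Matrix.ProjectiveSpecialLinearGroup (Fin 2) F) ∧
            u ∉ Cfsg.oddCore G ∧ u ^ 2 ∈ Cfsg.oddCore G)) := by
  classical
  haveI : Fact (Nat.Prime 2) := ⟨Nat.prime_two⟩
  cases nonempty_fintype G
  haveI : (Cfsg.oddCore G).Normal := Grp.pPrimeCore_isNormal
  set N := Cfsg.oddCore G with hNdef
  cases nonempty_fintype (G ⧸ N)
  have hN : ¬ 2 ∣ Nat.card N := Grp.pPrimeCore_not_dvd (p := 2) (G := G)
  have hdown : ∀ χ : IrrCharacter G, χ ∈ principalBlock M G → (χ : G → ℂ) ≠ (fun _ => 1) →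
      ∃ ψ : IrrCharacter (G ⧸ N), (ψ : G ⧸ N → ℂ) ≠ (fun _ => 1) ∧
        ∀ g : G, (χ : G → ℂ) g = (ψ : G ⧸ N → ℂ) g := by
    intro χ hχ h1
    obtain ⟨ψ, hψ, he⟩ := IsIrr.exists_factor_quotient χ.2 N
      (fun x hx => principal_ker_of_coprime hM hN hχ hx)
    refine ⟨⟨ψ, hψ⟩, fun e => h1 (funext fun g => ?_), fun g => (he g).symm⟩
    exact (he g).symm.trans (congrFun e _)
  constructor
  · rintro ⟨k, hk⟩
    by_cases hu : u ∈ N
    · exact Or.inl hu
    have hO : Cfsg.oddCore (G ⧸ N) = ⊥ := PPartDerived.pPrimeCore_quotient_eq_bot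
    have hu1 : (u : G ⧸ N) ≠ 1 := fun e => hu ((QuotientGroup.eq_one_iff u).1 e)
    have hcd : CD M (u : G ⧸ N) k := fun ψ hψ => by
      obtain ⟨hψ1, hψ2⟩ := mem_nt.1 hψ
      refine hk (PrinCol.infl ψ) ((PrinCol.infl_mem_iff hM hN ψ).2 hψ1) fun e => hψ2 (funext fun q => ?_)
      obtain ⟨g, rfl⟩ := QuotientGroup.mk'_surjective N q
      exact congrFun e g
    rcases reduced hM hO hu1 hcd with h2 | ⟨F, i1, i2, m, hm, hF, e, hu2⟩
    · exact Or.inr (Or.inl ⟨h2, hu⟩)
    · exact Or.inr (Or.inr ⟨F, i1, i2, m, hm, hF, e, hu, by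
        rwa [← QuotientGroup.mk_pow, QuotientGroup.eq_one_iff] at hu2⟩)
  · rintro (hu | ⟨h2, hu⟩ | ⟨F, i1, i2, m, hm, hF, ⟨e⟩, hu, hu2⟩)
    · exact ⟨0, fun χ hχ _ => by rw [principal_ker_of_coprime hM hN hχ hu, sub_self]⟩
    · refine ⟨2, fun χ hχ h1 => ?_⟩
      obtain ⟨ψ, hψ, he⟩ := hdown χ hχ h1
      haveI : IsCyclic (G ⧸ N) := isCyclic_of_prime_card (p := 2) h2
      have hcomm : ∀ a b : G ⧸ N, a * b = b * a := fun a b =>
        (IsCyclic.commGroup (α := G ⧸ N)).mul_comm a b
      obtain ⟨l, hl⟩ := linearHom_of_isCharacter (IsIrr.isCharacter ψ.2) (IsIrr.one_of_comm hcomm ψ.2)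
      have hu1 : (u : G ⧸ N) ≠ 1 := fun e => hu ((QuotientGroup.eq_one_iff u).1 e)
      have hsq : l (u : G ⧸ N) * l (u : G ⧸ N) = 1 := by
        rw [← map_mul, ← pow_two, ← h2, pow_card_eq_one', map_one]
      rw [he, he, QuotientGroup.mk_one, hl]
      simp only [map_one, Units.val_one]
      rcases sign_of_sq hsq with h3 | h3
      · refine absurd (funext fun q => ?_) hψ
        rw [hl]
        have hq : q = 1 ∨ q = (u : G ⧸ N) := by
          by_contra hno
          push Not at hno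
          have : 3 ≤ Nat.card (G ⧸ N) := by
            rw [Nat.card_eq_fintype_card]
            refine le_trans ?_ (Finset.card_le_univ ({1, (u : G ⧸ N), q} : Finset (G ⧸ N)))
            rw [Finset.card_insert_of_notMem (by simp [hu1.symm, hno.1.symm]),
              Finset.card_pair hno.2.symm]
          have h2' : Nat.card (G ⧸ N) = 2 := h2
          omega
        rcases hq with rfl | rfl <;> simp [h3]
      · rw [h3]; norm_num
    · refine ⟨(2 ^ m : ℕ), fun χ hχ h1 => ?_⟩
      haveI : CharP F 2 := charP_of_card_eq_prime_pow hF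
      let e' : Matrix.SpecialLinearGroup (Fin 2) F ≃* G ⧸ N := Invol.GW.SLTwoEquivPSL.trans e.symm
      obtain ⟨ψ, hψ, he⟩ := hdown χ hχ h1
      have hv : orderOf (e'.symm (u : G ⧸ N)) = 2 := by
        rw [MulEquiv.orderOf_eq]
        exact orderOf_eq_prime (by rw [← QuotientGroup.mk_pow, QuotientGroup.eq_one_iff]; exact hu2)
          fun e => hu ((QuotientGroup.eq_one_iff u).1 e)
      have h4 : 4 ≤ Fintype.card F := by
        rw [hF]; exact (show (2 : ℕ) ^ 2 = 4 by norm_num) ▸ Nat.pow_le_pow_right two_pos hm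
      have h5 := sl_two_diff h4 hv ⟨_, IsIrr.comp_mulEquiv e' ψ.2⟩ fun e => hψ (funext fun q => by
        have := congrFun e (e'.symm q)
        simpa using this)
      simp only [map_one, MulEquiv.apply_symm_apply, hF] at h5
      rw [he, he, QuotientGroup.mk_one, h5]

end Cfsg.Agent.Block.ConstDiff
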