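import Cfsg.Agent.Lib.Block.ConstDiff.Basic
import Cfsg.Agent.Lib.Invol.OneClassSimple
import Cfsg.Agent.Lib.Invol.GW.Consumers.DGroupEven
import Cfsg.Agent.Lib.Invol.GW.Consumers.HallNumbers
import Cfsg.Agent.Lib.Grp.Solvable
import Cfsg.Agent.S0205

/-!
A constant difference on the principal `2`-block with trivial core of odd order: order two, or a
simple normal subgroup; recognition from that subgroup.
-/

set_option autoImplicit false
set_option linter.unusedSectionVars false
set_option linter.style.haveILetI false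

namespace Cfsg.Agent.Block.ConstDiff

open Cfsg Subgroup

universe u

variable {X : Type u} [Group X] [Fintype X] {M : Ideal AlgInt} {u t : X} {k : ℂ}

theorem sylow_sq (hall : ∀ v : X, (∃ j : ℕ, orderOf v = 2 ^ j) → v ≠ 1 → IsConj t v)
    (ht : orderOf t = 2) (S : Sylow 2 X) {x : X} (hx : x ∈ (S : Subgroup X)) : x * x = 1 := by
  by_cases h1 : x = 1
  · rw [h1, one_mul]
  obtain ⟨j, hj⟩ := IsPGroup.iff_orderOf.1 S.isPGroup' ⟨x, hx⟩
  rw [Subgroup.orderOf_mk] at hj
  obtain ⟨c, hc⟩ := isConj_iff.1 (hall x ⟨j, hj⟩ h1)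
  rw [← hc, show c * t * c⁻¹ * (c * t * c⁻¹) = c * (t * t) * c⁻¹ by group]
  rw [← pow_two, ← ht, pow_orderOf_eq_one, mul_one, mul_inv_cancel]

theorem sylow_comm (hall : ∀ v : X, (∃ j : ℕ, orderOf v = 2 ^ j) → v ≠ 1 → IsConj t v)
    (ht : orderOf t = 2) (S : Sylow 2 X) {x y : X} (hx : x ∈ (S : Subgroup X))
    (hy : y ∈ (S : Subgroup X)) : x * y = y * x := by
  have hs := fun {w : X} hw => inv_eq_of_mul_eq_one_right (sylow_sq hall ht S (x := w) hw)
  calc x * y = (x * y)⁻¹ := (hs (mul_mem hx hy)).symm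
    _ = y * x := by rw [mul_inv_rev, hs hx, hs hy]

theorem involutions_conj (hall : ∀ v : X, (∃ j : ℕ, orderOf v = 2 ^ j) → v ≠ 1 → IsConj t v)
    (v w : X) (hv : orderOf v = 2) (hw : orderOf w = 2) : IsConj v w :=
  have key : ∀ z : X, orderOf z = 2 → IsConj t z := fun z hz =>
    hall z ⟨1, by rw [hz, pow_one]⟩ fun e => by rw [e, orderOf_one] at hz; omega
  (key v hv).symm.trans (key w hw)

/-- With trivial core the centralizer of a normal Sylow subgroup is the subgroup itself. -/
theorem centralizer_normal_sylow (hO : Cfsg.oddCore X = ⊥) (S : Sylow 2 X)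
    (hn : (S : Subgroup X).Normal) (hc : ∀ x ∈ (S : Subgroup X), ∀ y ∈ (S : Subgroup X), x * y = y * x) :
    centralizer ((S : Subgroup X) : Set X) ≤ (S : Subgroup X) := by
  haveI : Fact (Nat.Prime 2) := ⟨Nat.prime_two⟩
  haveI := hn
  haveI : Group.IsSolvable (S : Subgroup X) :=
    Group.isSolvable_of_comm fun a b => Subtype.ext (hc a a.2 b b.2)
  haveI : Group.IsSolvable (X ⧸ (S : Subgroup X)) := Cfsg.Agent.S0205.result (by
    rw [← index_eq_card, ← Nat.not_even_iff_odd, even_iff_two_dvd]; exact S.not_dvd_index)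
  haveI : Group.IsSolvable X :=
    (Group.isSolvable_iff_subgroup_quotient (S : Subgroup X)).2 ⟨inferInstance, inferInstance⟩
  have hS : Cfsg.pCore 2 X = (S : Subgroup X) :=
    le_antisymm (Grp.pCore_le_sylow S) (Grp.le_pCore hn S.isPGroup')
  have h := Grp.centralizer_pCore_le (G := X) (p := 2) hO
  rwa [hS] at h

/-- Order two, or a simple normal subgroup of odd index. -/
theorem two_or_simple (hM : IsPModular 2 M) {n : ℕ} (hn0 : 0 < n) (h : CD M u (n : ℂ))
    (hO : Cfsg.oddCore X = ⊥) (ht : orderOf t = 2)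
    (hall : ∀ v : X, (∃ j : ℕ, orderOf v = 2 ^ j) → v ≠ 1 → IsConj t v) :
    Nat.card X = 2 ∨ ∃ T : Subgroup X, T.Normal ∧ IsSimpleGroup T ∧ ¬ IsMulCommutative T ∧
      (∀ v : X, orderOf v = 2 → v ∈ T) ∧ centralizer (T : Set X) = ⊥ ∧
      ∀ S : Sylow 2 X, (S : Subgroup X) ≤ T ∧
        (centralizer ((S : Subgroup X) : Set X) ≤ T → T = ⊤) := by
  haveI : Fact (Nat.Prime 2) := ⟨Nat.prime_two⟩
  by_cases hnc : ∃ s v : X, orderOf s = 2 ∧ orderOf v = 2 ∧ s * v ≠ v * s
  · right
    obtain ⟨T, hTn, hTs, hTc, hinv⟩ :=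
      Invol.exists_simple_normal_of_one_class hO (involutions_conj hall) hnc
    haveI := hTn
    haveI := hTs
    have hST : ∀ S : Sylow 2 X, (S : Subgroup X) ≤ T := fun S x hx => by
      by_cases h1 : x = 1
      · rw [h1]; exact one_mem T
      · exact hinv x (orderOf_eq_prime (by rw [pow_two]; exact sylow_sq hall ht S hx) h1)
    refine ⟨T, hTn, hTs, hTc, hinv, ?_, fun S => ⟨hST S, fun hC => ?_⟩⟩
    · refine le_bot_iff.1 (hO ▸ Grp.le_pPrimeCore (p := 2) (inferInstance : (centralizer (T : Set X)).Normal) ?_)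
      refine (Nat.prime_two.coprime_iff_not_dvd.2 fun hd => hTc ⟨⟨fun a b => ?_⟩⟩).symm
      obtain ⟨⟨v, hv⟩, hv2⟩ := exists_prime_orderOf_dvd_card' (G := centralizer (T : Set X)) 2 hd
      rw [Subgroup.orderOf_mk] at hv2
      have hvT : (⟨v, hinv v hv2⟩ : T) ∈ center T :=
        mem_center_iff.2 fun g => Subtype.ext (mem_centralizer_iff.1 hv g g.2)
      rcases (inferInstance : (center T).Normal).eq_bot_or_eq_top with e | e
      · rw [e, mem_bot] at hvT
        have : v = 1 := congrArg Subtype.val hvT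
        rw [this, orderOf_one] at hv2
        omega
      · exact mem_center_iff.1 (e ▸ mem_top b) a
    · exact eq_top_of_centralizer_le hM hn0 h S T (Nat.not_even_iff_odd.1 fun he =>
        S.not_dvd_index ((even_iff_two_dvd.1 he).trans (index_dvd_of_le (hST S)))) hC
  · left
    push Not at hnc
    obtain ⟨S⟩ : Nonempty (Sylow 2 X) := inferInstance
    let E : Subgroup X :=
      { carrier := {g | g * g = 1}
        one_mem' := one_mul 1
        mul_mem' := fun {a b} ha hb => by
          have hab : a * b = b * a := by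
            by_cases a1 : a = 1
            · rw [a1, one_mul, mul_one]
            by_cases b1 : b = 1
            · rw [b1, one_mul, mul_one]
            exact hnc a b (orderOf_eq_prime (by rw [pow_two]; exact ha) a1)
              (orderOf_eq_prime (by rw [pow_two]; exact hb) b1)
          show a * b * (a * b) = 1
          calc a * b * (a * b) = a * (b * a) * b := by group
            _ = a * a * (b * b) := by rw [← hab]; group
            _ = 1 := by rw [show a * a = 1 from ha, show b * b = 1 from hb, one_mul]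
        inv_mem' := fun {a} ha => by
          show a⁻¹ * a⁻¹ = 1
          rw [← mul_inv_rev, show a * a = 1 from ha, inv_one] }
    have hE : IsPGroup 2 E := fun g => ⟨1, Subtype.ext (by rw [pow_one, pow_two]; exact g.2)⟩
    have hES : E = (S : Subgroup X) := S.is_maximal' hE fun x hx => sylow_sq hall ht S hx
    haveI hSn : (S : Subgroup X).Normal := hES ▸ ⟨fun a ha g => by
      show g * a * g⁻¹ * (g * a * g⁻¹) = 1
      rw [show g * a * g⁻¹ * (g * a * g⁻¹) = g * (a * a) * g⁻¹ by group,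
        show a * a = 1 from ha, mul_one, mul_inv_cancel]⟩
    have htop := eq_top_of_centralizer_le hM hn0 h S (S : Subgroup X)
      (Nat.not_even_iff_odd.1 fun he => S.not_dvd_index (even_iff_two_dvd.1 he))
      (centralizer_normal_sylow hO S hSn fun x hx y hy => sylow_comm hall ht S hx hy)
    have heq : ∀ g : X, g = 1 ∨ g = t := fun g => by
      by_cases h1 : g = 1
      · exact Or.inl h1
      obtain ⟨c, hc⟩ := isConj_iff.1 (hall g ⟨1, by
        rw [pow_one]
        exact orderOf_eq_prime (by rw [pow_two]; exact sylow_sq hall ht S (htop ▸ mem_top g)) h1⟩ h1)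
      refine Or.inr ?_
      rw [← hc, sylow_comm hall ht S (x := c) (y := t) (htop ▸ mem_top c) (htop ▸ mem_top t),
        mul_inv_cancel_right]
    have ht1 : t ≠ 1 := fun e => by rw [e, orderOf_one] at ht; omega
    classical
    rw [Nat.card_eq_fintype_card, ← Finset.card_univ, show (Finset.univ : Finset X) = {1, t} from
      (Finset.eq_univ_iff_forall.2 fun g => by simpa using heq g).symm, Finset.card_pair ht1.symm]

/-- Recognition of `SL₂(2ⁿ)` as the whole group. -/
theorem eq_psl_two {T : Subgroup X} [T.Normal] [IsSimpleGroup T]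
    (hall : ∀ v : X, (∃ j : ℕ, orderOf v = 2 ^ j) → v ≠ 1 → IsConj t v) (ht : orderOf t = 2)
    (hcen : centralizer (T : Set X) = ⊥) (S : Sylow 2 X) (hST : (S : Subgroup X) ≤ T)
    (htop : centralizer ((S : Subgroup X) : Set X) ≤ T → T = ⊤)
    (hut : IsPPart 2 u t) {F : Type} [Field F] [Fintype F] {m : ℕ} (hm : 2 ≤ m)
    (hF : Fintype.card F = 2 ^ m)
    (e : T ≃* Matrix.ProjectiveSpecialLinearGroup (Fin 2) F) :
    Nonempty (X ≃* Matrix.ProjectiveSpecialLinearGroup (Fin 2) F) ∧ u ^ 2 = 1 := by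
  classical
  haveI : Fact (Nat.Prime 2) := ⟨Nat.prime_two⟩
  haveI : CharP F 2 := charP_of_card_eq_prime_pow hF
  let e' : Matrix.SpecialLinearGroup (Fin 2) F ≃* T := Invol.GW.SLTwoEquivPSL.trans e.symm
  have hq4 : 4 ≤ 2 ^ m := (show (2 : ℕ) ^ 2 = 4 by norm_num) ▸ Nat.pow_le_pow_right two_pos hm
  have hC : ∀ v : T, orderOf v = 2 → Nat.card (centralizer ({v} : Set T)) = 2 ^ m := by
    intro v hv
    have h1 := Invol.GW.SLTwo_card_centralizer (F := F) (v := e'.symm v) (by rw [MulEquiv.orderOf_eq, hv])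
    rw [hF] at h1
    rw [← h1]
    refine Nat.card_congr (e'.symm.toEquiv.subtypeEquiv fun g => ?_)
    simp only [mem_centralizer_singleton_iff, MulEquiv.toEquiv_eq_coe, EquivLike.coe_coe, ← map_mul,
      EmbeddingLike.apply_eq_iff_eq]
  have hSc : ∀ R : Sylow 2 T, Nat.card (R : Subgroup T) = 2 ^ m := by
    intro R
    let R' : Sylow 2 (Matrix.SpecialLinearGroup (Fin 2) F) :=
      R.mapSurjective (f := e'.symm.toMonoidHom) e'.symm.surjective
    rw [← hF, ← Block.AbTwo.SLTwo.card_sylow R']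
    exact Nat.card_congr ((R : Subgroup T).equivMapOfInjective e'.symm.toMonoidHom
      e'.symm.injective).toEquiv
  have hsq : ∀ R : Sylow 2 T, ∀ v ∈ (R : Subgroup T), v * v = 1 := by
    intro R v hv
    apply e'.symm.injective
    rw [map_mul, map_one]
    exact Block.AbTwo.SLTwo.sylow_sq (R.mapSurjective (f := e'.symm.toMonoidHom) e'.symm.surjective)
      _ ⟨v, hv, rfl⟩
  have hconj : ∀ v w : T, orderOf v = 2 → orderOf w = 2 → IsConj v w := fun v w hv hw => by
    have h1 := Block.AbTwo.SLTwo.isConj_involutions (g := e'.symm v) (g' := e'.symm w)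
      (by rw [MulEquiv.orderOf_eq, hv]) (by rw [MulEquiv.orderOf_eq, hw])
    have h2 := MonoidHom.map_isConj e'.toMonoidHom h1
    simpa using h2
  have hcard : Nat.card T = 2 ^ m * ((2 ^ m) ^ 2 - 1) := by
    rw [Nat.card_congr e.toEquiv, Invol.GW.HallNumbers.card_psl_two_pow
      (by rw [hF]; exact Nat.even_pow.2 ⟨even_two, by omega⟩), hF, ← one_pow 2, Nat.sq_sub_sq, one_pow]
    ring
  let E : Sylow 2 T := S.subtype hST
  have hCS : centralizer ((S : Subgroup X) : Set X) ≤ T := by
    intro g hg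
    obtain ⟨⟨a, haT⟩, -, ha⟩ := Invol.GW.aut_fix_sylow hq4 hcard hSc hsq hC hconj E
      (MulAut.conjNormal g : MulAut T) (fun w hw => Subtype.ext (by
        rw [MulAut.conjNormal_apply, ← mem_centralizer_iff.1 hg w hw, mul_inv_cancel_right]))
    have h1 : a⁻¹ * g ∈ centralizer (T : Set X) := mem_centralizer_iff.2 fun y hy => by
      have h2 := congrArg (fun f : MulAut T => ((f ⟨y, hy⟩ : T) : X)) ha
      simp only [MulAut.conjNormal_apply, MulAut.conj_apply, Subgroup.coe_mul, Subgroup.coe_inv] at h2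
      calc y * (a⁻¹ * g) = a⁻¹ * (a * y * a⁻¹) * g := by group
        _ = a⁻¹ * (g * y * g⁻¹) * g := by rw [h2]
        _ = a⁻¹ * g * y := by group
    rw [hcen, mem_bot, inv_mul_eq_one] at h1
    exact h1 ▸ haT
  obtain rfl := htop hCS
  refine ⟨⟨topEquiv.symm.trans e⟩, ?_⟩
  obtain ⟨s, rfl, hcomm, -, hs⟩ := hut
  have ht' : orderOf (⟨t, mem_top t⟩ : (⊤ : Subgroup X)) = 2 := by rw [Subgroup.orderOf_mk, ht]
  have hs2 : orderOf s ∣ 2 ^ m := by
    have hmem : (⟨s, mem_top s⟩ : (⊤ : Subgroup X)) ∈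
        centralizer ({⟨t, mem_top t⟩} : Set (⊤ : Subgroup X)) :=
      mem_centralizer_singleton_iff.2 (Subtype.ext hcomm.eq.symm)
    have h1 := orderOf_dvd_natCard _ hmem
    rwa [hC _ ht', Subgroup.orderOf_mk] at h1
  have hs1 : s = 1 := orderOf_eq_one_iff.1 (Nat.eq_one_of_dvd_coprimes
    ((Nat.prime_two.coprime_iff_not_dvd.2 hs).symm.pow_right m) dvd_rfl hs2)
  rw [hs1, mul_one, ← ht, pow_orderOf_eq_one]

end Cfsg.Agent.Block.ConstDiff
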